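import Cfsg.Agent.Lib.Helper12.TC.Index
import Cfsg.Prelude.Def_SporCoxeter

/-!
Coset enumeration certificates for the Coxeter style presentations of the sporadic groups (helper12).
-/

set_option autoImplicit false

namespace Cfsg.Agent.Lib.Helper12.TC

open Cfsg.Spor

section Cox

variable {α : Type} [DecidableEq α] (edges : List (α × ℕ × α)) (gen : ℕ → α)

/-- the Coxeter label of two generators given by their numbers -/
def labN (i j : ℕ) : ℕ := coxLabel edges (gen i) (gen j)

/-- the word `(i j)^m` -/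
def coxWord (m i j : ℕ) : List ℕ :=
  @Nat.rec (fun _ => List ℕ) [] (fun _ ih => i :: j :: ih) m

/-- the Coxeter words of all pairs `i < j < g` -/
def coxWords (g : ℕ) : List (List ℕ) :=
  (List.range g).flatMap (fun j => (List.range j).map (fun i => coxWord (labN edges gen i j) i j))

theorem wprod_coxWord {K : Type*} [Group K] (ψ : ℕ → K) (m i j : ℕ) :
    wprod ψ (coxWord m i j) = (ψ i * ψ j) ^ m := by
  induction m with
  | zero =>
    have e : coxWord 0 i j = [] := rfl
    rw [e, wprod_nil, pow_zero]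
  | succ m ih =>
    have e : coxWord (m+1) i j = i :: j :: coxWord m i j := rfl
    rw [e, wprod_cons, wprod_cons, ih, pow_succ', mul_assoc]

theorem coxLabel_symm (x y : α) : coxLabel edges x y = coxLabel edges y x := by
  by_cases h : x = y
  · rw [h]
  · have hp : (fun e : α × ℕ × α => decide ((e.1 = x ∧ e.2.2 = y) ∨ (e.1 = y ∧ e.2.2 = x))) =
        (fun e => decide ((e.1 = y ∧ e.2.2 = x) ∨ (e.1 = x ∧ e.2.2 = y))) := by
      funext e
      exact decide_eq_decide.mpr or_comm
    delta coxLabel
    rw [if_neg h, if_neg (Ne.symm h), hp]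

theorem mem_coxWords {g i j : ℕ} (hij : i < j) (hj : j < g) :
    coxWord (labN edges gen i j) i j ∈ coxWords edges gen g := by
  refine List.mem_flatMap.mpr ⟨j, List.mem_range.mpr hj, ?_⟩
  exact List.mem_map.mpr ⟨i, List.mem_range.mpr hij, rfl⟩

theorem pow_swap_eq_one {K : Type*} [Group K] (a b : K) (m : ℕ) (h : (a * b) ^ m = 1) :
    (b * a) ^ m = 1 := by
  have h1 : b * a = b * (a * b) * b⁻¹ := by group
  rw [h1, conj_pow, h, mul_one, mul_inv_cancel]

/-- A homomorphism from the free group which kills the Coxeter words kills the Coxeter relators. -/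
theorem cox_hom_of_words {K : Type*} [Group K] (φ : FreeGroup α →* K) (g : ℕ)
    (hsurj : ∀ y : α, ∃ i < g, gen i = y)
    (hsq : ∀ y, φ (FreeGroup.of y) * φ (FreeGroup.of y) = 1)
    (hw : ∀ b ∈ coxWords edges gen g, wprod (fun i => φ (FreeGroup.of (gen i))) b = 1) :
    ∀ r ∈ coxRelators edges, φ r = 1 := by
  rintro r ⟨x, _, y, _, rfl⟩
  obtain ⟨i, hi, rfl⟩ := hsurj x
  obtain ⟨j, hj, rfl⟩ := hsurj y
  rw [map_pow, map_mul]
  rcases Nat.lt_trichotomy i j with h | h | h
  · have := hw _ (mem_coxWords edges gen h hj)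
    rw [wprod_coxWord] at this
    exact this
  · rw [h]
    have : coxLabel edges (gen j) (gen j) = 1 := by
      delta coxLabel
      rw [if_pos rfl]
    rw [this, pow_one]
    exact hsq _
  · have := hw _ (mem_coxWords edges gen h hi)
    rw [wprod_coxWord] at this
    have e : labN edges gen j i = coxLabel edges (gen i) (gen j) := coxLabel_symm edges _ _
    rw [e] at this
    exact pow_swap_eq_one _ _ _ this

/-- A homomorphism from the free group which kills the Coxeter relators kills the Coxeter words. -/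
theorem cox_words_of_hom {K : Type*} [Group K] (φ : FreeGroup α →* K) (g : ℕ)
    (hnodes : ∀ y : α, y ∈ coxNodes edges)
    (hr : ∀ r ∈ coxRelators edges, φ r = 1) :
    ∀ b ∈ coxWords edges gen g, wprod (fun i => φ (FreeGroup.of (gen i))) b = 1 := by
  intro b hb
  obtain ⟨j, _, hb⟩ := List.mem_flatMap.mp hb
  obtain ⟨i, _, rfl⟩ := List.mem_map.mp hb
  rw [wprod_coxWord, ← map_mul, ← map_pow]
  exact hr _ ⟨gen i, hnodes _, gen j, hnodes _, rfl⟩

theorem cox_sq_of_hom {K : Type*} [Group K] (φ : FreeGroup α →* K)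
    (hnodes : ∀ y : α, y ∈ coxNodes edges)
    (hr : ∀ r ∈ coxRelators edges, φ r = 1) (y : α) :
    φ (FreeGroup.of y) * φ (FreeGroup.of y) = 1 := by
  have h1 := hr _ ⟨y, hnodes y, y, hnodes y, rfl⟩
  have : coxLabel edges y y = 1 := by
    delta coxLabel
    rw [if_pos rfl]
  rw [this, pow_one, map_mul] at h1
  exact h1

end Cox

end Cfsg.Agent.Lib.Helper12.TC
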