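import Cfsg.Agent.Lib.Helper12.TC.Main
import Cfsg.Prelude.Def_Spor_Suz

/-!
The presentation of the Suzuki group: numbering of the generators and the further relators as
positive words (helper12).
-/

set_option autoImplicit false

namespace Cfsg.Agent.Lib.Helper12.TC.SuzPres

open Cfsg.Spor Cfsg.Agent.Lib.Helper12.TC

/-- numbering of the generators -/
def gen : ℕ → Suz.Gen
  | 0 => .a
  | 1 => .b
  | 2 => .c
  | 3 => .d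
  | 4 => .e
  | 5 => .f
  | _ => .g

/-- numbering of the generators -/
def idx : Suz.Gen → ℕ
  | .a => 0
  | .b => 1
  | .c => 2
  | .d => 3
  | .e => 4
  | .f => 5
  | .g => 6

theorem hidx : ∀ y, idx y < 7 ∧ gen (idx y) = y := by
  intro y
  cases y <;> exact ⟨by decide, rfl⟩

theorem hgi : ∀ i < 7, idx (gen i) = i := by decide

theorem hnodes : ∀ y : Suz.Gen, y ∈ coxNodes Suz.edges := by
  intro y
  cases y <;> decide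

/-- the further relators as positive words -/
def extraWords : List (List ℕ) :=
  [[0, 3, 2, 3, 2, 3, 2, 3, 2], [0, 6, 5, 6, 5],
   [0, 1, 2, 5, 0, 1, 2, 5, 0, 1, 2, 5, 0, 1, 2, 5, 0, 1, 2, 5],
   [1, 5, 6, 1, 5, 6, 1, 5, 6, 1, 5, 6, 1, 5, 6],
   [1, 2, 3, 2, 3, 1, 2, 3, 2, 3, 1, 2, 3, 2, 3, 1, 2, 3, 2, 3, 1, 2, 3, 2, 3, 4,
    1, 2, 3, 2, 3, 1, 2, 3, 2, 3, 1, 2, 3, 2, 3, 1, 2, 3, 2, 3, 1, 2, 3, 2, 3, 4,
    1, 2, 3, 2, 3, 1, 2, 3, 2, 3, 1, 2, 3, 2, 3, 1, 2, 3, 2, 3, 1, 2, 3, 2, 3, 4]]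

set_option maxRecDepth 10000 in
theorem hextra : ∀ {K : Type} [Group K] (φ : FreeGroup Suz.Gen →* K),
    (∀ y, φ (FreeGroup.of y) * φ (FreeGroup.of y) = 1) →
    ((∀ r ∈ Suz.extra, φ r = 1) ↔
      ∀ b ∈ extraWords, wprod (fun i => φ (FreeGroup.of (gen i))) b = 1) := by
  intro K _ φ hsq
  have hi : ∀ y, (φ (FreeGroup.of y))⁻¹ = φ (FreeGroup.of y) :=
    fun y => inv_eq_of_mul_eq_one_left (hsq y)
  have e1 : φ (Suz.a * ((Suz.c * Suz.d) ^ 4)⁻¹) =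
      wprod (fun i => φ (FreeGroup.of (gen i))) [0, 3, 2, 3, 2, 3, 2, 3, 2] := by
    simp only [map_mul, map_inv, mul_inv_rev, pow_succ, pow_zero, one_mul, hi, wprod,
      List.map, List.prod_cons, List.prod_nil, mul_one, mul_assoc, gen]
  have e2 : φ (Suz.a * ((Suz.f * Suz.g) ^ 2)⁻¹) =
      wprod (fun i => φ (FreeGroup.of (gen i))) [0, 6, 5, 6, 5] := by
    simp only [map_mul, map_inv, mul_inv_rev, pow_succ, pow_zero, one_mul, hi, wprod,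
      List.map, List.prod_cons, List.prod_nil, mul_one, mul_assoc, gen]
  have e3 : φ ((Suz.a * Suz.b * Suz.c * Suz.f) ^ 5) =
      wprod (fun i => φ (FreeGroup.of (gen i)))
        [0, 1, 2, 5, 0, 1, 2, 5, 0, 1, 2, 5, 0, 1, 2, 5, 0, 1, 2, 5] := by
    simp only [map_mul, pow_succ, pow_zero, one_mul, wprod,
      List.map, List.prod_cons, List.prod_nil, mul_one, mul_assoc, gen]
  have e4 : φ ((Suz.b * Suz.f * Suz.g) ^ 5) =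
      wprod (fun i => φ (FreeGroup.of (gen i)))
        [1, 5, 6, 1, 5, 6, 1, 5, 6, 1, 5, 6, 1, 5, 6] := by
    simp only [map_mul, pow_succ, pow_zero, one_mul, wprod,
      List.map, List.prod_cons, List.prod_nil, mul_one, mul_assoc, gen]
  have e5 : φ (((Suz.b * Suz.c * Suz.d * Suz.c * Suz.d) ^ 5 * Suz.e) ^ 3) =
      wprod (fun i => φ (FreeGroup.of (gen i)))
        [1, 2, 3, 2, 3, 1, 2, 3, 2, 3, 1, 2, 3, 2, 3, 1, 2, 3, 2, 3, 1, 2, 3, 2, 3, 4,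
         1, 2, 3, 2, 3, 1, 2, 3, 2, 3, 1, 2, 3, 2, 3, 1, 2, 3, 2, 3, 1, 2, 3, 2, 3, 4,
         1, 2, 3, 2, 3, 1, 2, 3, 2, 3, 1, 2, 3, 2, 3, 1, 2, 3, 2, 3, 1, 2, 3, 2, 3, 4] := by
    simp only [map_mul, pow_succ, pow_zero, one_mul, wprod,
      List.map, List.prod_cons, List.prod_nil, mul_one, mul_assoc, gen]
  have hL : (∀ r ∈ Suz.extra, φ r = 1) ↔
      (φ (Suz.a * ((Suz.c * Suz.d) ^ 4)⁻¹) = 1 ∧ φ (Suz.a * ((Suz.f * Suz.g) ^ 2)⁻¹) = 1 ∧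
        φ ((Suz.a * Suz.b * Suz.c * Suz.f) ^ 5) = 1 ∧ φ ((Suz.b * Suz.f * Suz.g) ^ 5) = 1 ∧
        φ (((Suz.b * Suz.c * Suz.d * Suz.c * Suz.d) ^ 5 * Suz.e) ^ 3) = 1) := by
    show (∀ r ∈ [Suz.a * ((Suz.c * Suz.d) ^ 4)⁻¹, Suz.a * ((Suz.f * Suz.g) ^ 2)⁻¹,
      (Suz.a * Suz.b * Suz.c * Suz.f) ^ 5, (Suz.b * Suz.f * Suz.g) ^ 5,
      ((Suz.b * Suz.c * Suz.d * Suz.c * Suz.d) ^ 5 * Suz.e) ^ 3], φ r = 1) ↔ _
    simp only [List.forall_mem_cons, List.not_mem_nil, false_imp_iff, implies_true, and_true]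
  have hR : (∀ b ∈ extraWords, wprod (fun i => φ (FreeGroup.of (gen i))) b = 1) ↔
      (wprod (fun i => φ (FreeGroup.of (gen i))) [0, 3, 2, 3, 2, 3, 2, 3, 2] = 1 ∧
       wprod (fun i => φ (FreeGroup.of (gen i))) [0, 6, 5, 6, 5] = 1 ∧
       wprod (fun i => φ (FreeGroup.of (gen i)))
        [0, 1, 2, 5, 0, 1, 2, 5, 0, 1, 2, 5, 0, 1, 2, 5, 0, 1, 2, 5] = 1 ∧
       wprod (fun i => φ (FreeGroup.of (gen i)))
        [1, 5, 6, 1, 5, 6, 1, 5, 6, 1, 5, 6, 1, 5, 6] = 1 ∧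
       wprod (fun i => φ (FreeGroup.of (gen i)))
        [1, 2, 3, 2, 3, 1, 2, 3, 2, 3, 1, 2, 3, 2, 3, 1, 2, 3, 2, 3, 1, 2, 3, 2, 3, 4,
         1, 2, 3, 2, 3, 1, 2, 3, 2, 3, 1, 2, 3, 2, 3, 1, 2, 3, 2, 3, 1, 2, 3, 2, 3, 4,
         1, 2, 3, 2, 3, 1, 2, 3, 2, 3, 1, 2, 3, 2, 3, 1, 2, 3, 2, 3, 1, 2, 3, 2, 3, 4] = 1) := by
    show (∀ b ∈ [_, _, _, _, _], _) ↔ _
    simp only [List.forall_mem_cons, List.not_mem_nil, false_imp_iff, implies_true, and_true]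
  rw [hL, hR, e1, e2, e3, e4, e5]

end Cfsg.Agent.Lib.Helper12.TC.SuzPres
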