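import Mathlib

/-!
Verified coset enumeration certificates (helper12).

A certificate consists of a big natural number `A` holding *facts* `(src, sym, dst)` (44 bits each:
20 bits source label, 20 bits target label, 4 bits symbol, symbol 15 standing for the empty word),
whose meaning is `tau src * v sym * (tau dst)⁻¹ ∈ H`.  The first `D` facts define the labels
(`tau (k+1) = tau src * v sym`), every later fact is justified by a closed walk of earlier facts which
spells a relator (or a subgroup generator, starting at label `0`), the new fact being the last step.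
-/

set_option autoImplicit false

namespace Cfsg.Agent.Lib.Helper12.TC

/-! ### kernel-evaluated accessors -/

/-- a big number from its pieces of 32768 bits -/
def joinK (l : List ℕ) : ℕ :=
  @List.rec ℕ (fun _ => ℕ) 0 (fun a _ ih => Nat.add a (Nat.shiftLeft ih 32768)) l

/-- evaluate the number `e` first (this matters for the kernel only), then continue with its value -/
def forceN {β : Sort*} (e : ℕ) (k : ℕ → β) : β :=
  @Nat.rec (fun _ => β) (k 0) (fun n _ => k (Nat.succ n)) e

theorem forceN_eq {β : Sort*} (e : ℕ) (k : ℕ → β) : forceN e k = k e := by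
  cases e <;> rfl

/-- binary search tree of blocks of facts -/
inductive Tr where
  | leaf : ℕ → Tr
  | node : ℕ → Tr → Tr → Tr

/-- the block with number `k` of the tree: the keys below `c` are in the left subtree -/
noncomputable def Tr.look (t : Tr) : ℕ → ℕ :=
  @Tr.rec (fun _ => ℕ → ℕ) (fun a _ => a)
    (fun c _ _ ihl ihr k => @Bool.rec (fun _ => ℕ) (ihl k) (ihr k) (Nat.ble c k)) t

/-- the `k`-th fact of the tree `t`: blocks of 2048 facts of 44 bits -/
noncomputable def getT (t : Tr) (k : ℕ) : ℕ :=
  Nat.land (Nat.shiftRight (t.look (Nat.shiftRight k 11)) (Nat.mul 44 (Nat.land k 2047)))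
    17592186044415
/-- source label of a fact -/
def fSrc (e : ℕ) : ℕ := Nat.land e 1048575
/-- target label of a fact -/
def fDst (e : ℕ) : ℕ := Nat.land (Nat.shiftRight e 20) 1048575
/-- symbol of a fact -/
def fSym (e : ℕ) : ℕ := Nat.land (Nat.shiftRight e 40) 15
/-- the packed word number `rid` (512 bit slots) -/
def relW (RW rid : ℕ) : ℕ := Nat.mod (Nat.shiftRight RW (Nat.mul 512 rid)) (Nat.pow 2 512)

/-- oriented source, `o = 0` or `o = 1` -/
def oSrc (e o : ℕ) : ℕ := Nat.land (Nat.shiftRight e (Nat.mul 20 o)) 1048575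
/-- oriented target, `o = 0` or `o = 1` -/
def oDst (e o : ℕ) : ℕ := Nat.land (Nat.shiftRight e (Nat.sub 20 (Nat.mul 20 o))) 1048575

/-- the last packed letter of a walk: the letter of the new fact -/
def lastW (e : ℕ) : ℕ := @Bool.rec (fun _ => ℕ) (Nat.succ (fSym e)) 0 (Nat.beq (fSym e) 15)

/-- `n` walk steps; the code of the step with `n` steps to go is the 24 bit field number `n + 1`
of the record, it is `2 * d + o`, the fact used has the number `kk1 - d`.  The walk has to end in the
label `p` with the rest `lw` of the word. -/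
def stepsK (F : ℕ → ℕ) (kk1 rec p lw : ℕ) (n : ℕ) : ℕ → ℕ → Bool :=
  @Nat.rec (fun _ => ℕ → ℕ → Bool)
    (fun cur wd => @Bool.rec (fun _ => Bool) false (Nat.beq wd lw) (Nat.beq cur p))
    (fun n ih cur wd =>
      (fun code => (fun e =>
        @Bool.rec (fun _ => Bool) false
          (@Bool.rec (fun _ => Bool)
            (@Bool.rec (fun _ => Bool) false
              (forceN (Nat.shiftRight wd 4) (fun wd' => ih (oDst e (Nat.land code 1)) wd'))
              (Nat.beq (Nat.land wd 15) (Nat.succ (fSym e))))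
            (ih (oDst e (Nat.land code 1)) wd)
            (Nat.beq (fSym e) 15))
          (Nat.beq (oSrc e (Nat.land code 1)) cur))
        (F (Nat.sub kk1 (Nat.shiftRight code 1))))
      (Nat.land (Nat.shiftRight rec (Nat.add (Nat.mul 24 n) 24)) 16777215))
    n

/-- check of the derived fact number `kk` with the record `rec`: 8 bits number of the word, 16 bits
number of steps, then the steps -/
def factK (F : ℕ → ℕ) (RW R0 kk rec : ℕ) : Bool :=
  @Bool.rec (fun _ => Bool) false
    (@Bool.rec (fun _ => Bool)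
      (@Bool.rec (fun _ => Bool) false
        (stepsK F (Nat.sub kk 1) rec (fSrc (F kk)) (lastW (F kk))
          (Nat.land (Nat.shiftRight rec 8) 65535) (fDst (F kk)) (relW RW (Nat.land rec 255)))
        (Nat.beq (fDst (F kk)) 0))
      (stepsK F (Nat.sub kk 1) rec (fSrc (F kk)) (lastW (F kk))
        (Nat.land (Nat.shiftRight rec 8) 65535) (fDst (F kk)) (relW RW (Nat.land rec 255)))
      (Nat.ble (Nat.succ (Nat.land rec 255)) R0))
    (Nat.ble 1 kk)

/-- check of consecutive derived facts starting with number `kk` -/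
def chunkK (F : ℕ → ℕ) (RW R0 : ℕ) (recs : List ℕ) : ℕ → Bool :=
  @List.rec ℕ (fun _ => ℕ → Bool) (fun _ => true)
    (fun r _ ih kk => @Bool.rec (fun _ => Bool) false
      (forceN (Nat.succ kk) (fun kk' => ih kk')) (factK F RW R0 kk r))
    recs

/-- bounded universal quantifier, kernel friendly -/
def allBelowK (n : ℕ) (p : ℕ → Bool) : Bool :=
  @Nat.rec (fun _ => Bool) true (fun k ih => cond (p k) ih false) n

theorem allBelowK_iff (n : ℕ) (p : ℕ → Bool) : allBelowK n p = true ↔ ∀ k < n, p k = true := by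
  induction n with
  | zero => exact ⟨fun _ k hk => absurd hk (Nat.not_lt_zero k), fun _ => rfl⟩
  | succ n ih =>
    have e : allBelowK (n+1) p = cond (p n) (allBelowK n p) false := rfl
    rw [e]
    constructor
    · intro h k hk
      cases hp : p n with
      | false => rw [hp] at h; exact absurd h (by simp)
      | true =>
        rw [hp] at h
        rcases Nat.lt_succ_iff_lt_or_eq.mp hk with h1 | h1
        · exact ih.mp h k h1
        · rw [h1]; exact hp
    · intro h
      rw [h n (Nat.lt_succ_self n)]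
      exact ih.mpr (fun k hk => h k (Nat.lt_succ_of_lt hk))

/-- check of the defining facts `k < D`: source `≤ k`, target `= k + 1` -/
def defsK (F : ℕ → ℕ) (D : ℕ) : Bool :=
  allBelowK D (fun k => Nat.ble (fSrc (F k)) k && Nat.beq (fDst (F k)) (Nat.succ k))

/-! ### semantics -/

/-- unpacking of a word: nibbles `s + 1`, terminated by `0` -/
def unpack : ℕ → List ℕ
  | 0 => []
  | (w+1) => ((w+1) % 16 - 1) :: unpack ((w+1) / 16)
decreasing_by exact Nat.div_lt_self (Nat.succ_pos w) (by norm_num)

/-- packing of a word -/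
def pack : List ℕ → ℕ
  | [] => 0
  | s :: l => (s + 1) + 16 * pack l

theorem unpack_zero : unpack 0 = [] := by rw [unpack]

theorem unpack_pos {w : ℕ} (hw : w ≠ 0) : unpack w = (w % 16 - 1) :: unpack (w / 16) := by
  obtain ⟨w, rfl⟩ := Nat.exists_eq_succ_of_ne_zero hw
  rw [unpack]

theorem unpack_pack (l : List ℕ) (hl : ∀ s ∈ l, s < 15) : unpack (pack l) = l := by
  induction l with
  | nil => exact unpack_zero
  | cons s l ih =>
    have hs : s < 15 := hl s (List.mem_cons_self)
    have h1 : pack (s :: l) = (s + 1) + 16 * pack l := rfl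
    have h2 : pack (s :: l) ≠ 0 := by omega
    rw [unpack_pos h2, h1]
    have h3 : (s + 1 + 16 * pack l) % 16 - 1 = s := by omega
    have h4 : (s + 1 + 16 * pack l) / 16 = pack l := by omega
    rw [h3, h4, ih (fun t ht => hl t (List.mem_cons_of_mem _ ht))]

section Sound

variable {G : Type*} [Group G] (H : Subgroup G) (v : ℕ → G) (F : ℕ → ℕ)

/-- value of a word -/
def wprod (l : List ℕ) : G := (l.map v).prod

theorem wprod_nil : wprod v [] = 1 := rfl
theorem wprod_cons (s : ℕ) (l : List ℕ) : wprod v (s :: l) = v s * wprod v l := by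
  simp [wprod]
theorem wprod_append (l₁ l₂ : List ℕ) : wprod v (l₁ ++ l₂) = wprod v l₁ * wprod v l₂ := by
  simp [wprod]

/-- representative of a label -/
def tau : ℕ → G
  | 0 => 1
  | (k+1) => if _h : fSrc (F k) ≤ k then tau (fSrc (F k)) * v (fSym (F k)) else 1
decreasing_by omega

theorem tau_zero : tau v F 0 = 1 := by rw [tau]

theorem tau_succ {k : ℕ} (h : fSrc (F k) ≤ k) :
    tau v F (k+1) = tau v F (fSrc (F k)) * v (fSym (F k)) := by
  rw [tau, dif_pos h]

/-- meaning of the fact number `k` -/
def Valid (k : ℕ) : Prop :=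
  tau v F (fSrc (F k)) * v (fSym (F k)) * (tau v F (fDst (F k)))⁻¹ ∈ H

theorem fSym_lt (e : ℕ) : fSym e < 16 := by
  have : fSym e ≤ 15 := Nat.and_le_right
  omega

theorem defsK_sound {D : ℕ} (h : defsK F D = true) {k : ℕ} (hk : k < D) : Valid H v F k := by
  have h1 := (allBelowK_iff D _).mp h k hk
  have h2 : Nat.ble (fSrc (F k)) k = true ∧ Nat.beq (fDst (F k)) (Nat.succ k) = true := by
    simpa using h1
  have h3 : fSrc (F k) ≤ k := Nat.le_of_ble_eq_true h2.1
  have h4 : fDst (F k) = k + 1 := Nat.eq_of_beq_eq_true h2.2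
  show tau v F (fSrc (F k)) * v (fSym (F k)) * (tau v F (fDst (F k)))⁻¹ ∈ H
  rw [h4, tau_succ v F h3, mul_inv_cancel]
  exact H.one_mem

variable (hv15 : v 15 = 1) (hinv : ∀ s, v s * v s = 1)

theorem oSrc_zero (e : ℕ) : oSrc e 0 = fSrc e := rfl
theorem oDst_zero (e : ℕ) : oDst e 0 = fDst e := rfl
theorem oSrc_one (e : ℕ) : oSrc e 1 = fDst e := rfl
theorem oDst_one (e : ℕ) : oDst e 1 = fSrc e := by
  show Nat.land (Nat.shiftRight e (Nat.sub 20 (Nat.mul 20 1))) 1048575 = Nat.land e 1048575
  have : Nat.sub 20 (Nat.mul 20 1) = 0 := rfl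
  rw [this]; rfl

include hinv in
theorem valid_oriented {k : ℕ} (c : ℕ) (hk : Valid H v F k) :
    tau v F (oSrc (F k) (Nat.land c 1)) * v (fSym (F k)) *
      (tau v F (oDst (F k) (Nat.land c 1)))⁻¹ ∈ H := by
  have ho : Nat.land c 1 = 0 ∨ Nat.land c 1 = 1 := by
    have : c &&& 1 = c % 2 := Nat.and_one_is_mod c
    have h2 : Nat.land c 1 = c % 2 := this
    omega
  rcases ho with ho | ho
  · rw [ho, oSrc_zero, oDst_zero]; exact hk
  · rw [ho, oSrc_one, oDst_one]
    have h1 := H.inv_mem hk
    have h2 : (v (fSym (F k)))⁻¹ = v (fSym (F k)) := inv_eq_of_mul_eq_one_left (hinv _)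
    have h3 : (tau v F (fSrc (F k)) * v (fSym (F k)) * (tau v F (fDst (F k)))⁻¹)⁻¹
        = tau v F (fDst (F k)) * v (fSym (F k)) * (tau v F (fSrc (F k)))⁻¹ := by
      rw [mul_inv_rev, mul_inv_rev, inv_inv, h2, mul_assoc]
    rw [h3] at h1; exact h1

theorem boolRec_eq_true {a b : Bool} {c : Bool}
    (h : @Bool.rec (fun _ => Bool) a b c = true) : (c = false ∧ a = true) ∨ (c = true ∧ b = true) := by
  cases c
  · exact Or.inl ⟨rfl, h⟩
  · exact Or.inr ⟨rfl, h⟩

theorem boolRec_false_eq_true {b : Bool} {c : Bool}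
    (h : @Bool.rec (fun _ => Bool) false b c = true) : c = true ∧ b = true := by
  cases c
  · exact (Bool.false_ne_true h).elim
  · exact ⟨rfl, h⟩

include hv15 hinv in
theorem stepsK_sound {kk1 rec p lw : ℕ} (hall : ∀ j ≤ kk1, Valid H v F j) :
    ∀ (n cur wd : ℕ), stepsK F kk1 rec p lw n cur wd = true →
      ∃ l, unpack wd = l ++ unpack lw ∧ tau v F cur * wprod v l * (tau v F p)⁻¹ ∈ H := by
  intro n
  induction n with
  | zero =>
    intro cur wd h
    have e0 : stepsK F kk1 rec p lw 0 cur wd =
        @Bool.rec (fun _ => Bool) false (Nat.beq wd lw) (Nat.beq cur p) := rfl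
    rw [e0] at h
    obtain ⟨h1, h2⟩ := boolRec_false_eq_true h
    have e1 : cur = p := Nat.eq_of_beq_eq_true h1
    have e2 : wd = lw := Nat.eq_of_beq_eq_true h2
    refine ⟨[], by rw [e2]; rfl, ?_⟩
    rw [e1, wprod_nil, mul_one, mul_inv_cancel]; exact H.one_mem
  | succ n ih =>
    intro cur wd h
    set code := Nat.land (Nat.shiftRight rec (Nat.add (Nat.mul 24 n) 24)) 16777215 with hcode
    set fid := Nat.sub kk1 (Nat.shiftRight code 1) with hfid
    have e0 : stepsK F kk1 rec p lw (n+1) cur wd =
        @Bool.rec (fun _ => Bool) false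
          (@Bool.rec (fun _ => Bool)
            (@Bool.rec (fun _ => Bool) false
              (forceN (Nat.shiftRight wd 4)
                (fun wd' => stepsK F kk1 rec p lw n (oDst (F fid) (Nat.land code 1)) wd'))
              (Nat.beq (Nat.land wd 15) (Nat.succ (fSym (F fid)))))
            (stepsK F kk1 rec p lw n (oDst (F fid) (Nat.land code 1)) wd)
            (Nat.beq (fSym (F fid)) 15))
          (Nat.beq (oSrc (F fid) (Nat.land code 1)) cur) := rfl
    rw [e0] at h
    obtain ⟨h1, h⟩ := boolRec_false_eq_true h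
    have e1 : oSrc (F fid) (Nat.land code 1) = cur := Nat.eq_of_beq_eq_true h1
    have hfl : fid ≤ kk1 := Nat.sub_le _ _
    have hv := valid_oriented H v F hinv code (hall fid hfl)
    rw [e1] at hv
    rcases boolRec_eq_true h with ⟨h2, h⟩ | ⟨h2, h⟩
    · -- a letter is read
      obtain ⟨h3, h⟩ := boolRec_false_eq_true h
      rw [forceN_eq] at h
      obtain ⟨l, hl, hmem⟩ := ih _ _ h
      have e3' : wd &&& 15 = fSym (F fid) + 1 := Nat.eq_of_beq_eq_true h3
      have e3 : wd % 16 = fSym (F fid) + 1 := by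
        rw [← e3']; exact (Nat.and_two_pow_sub_one_eq_mod wd 4).symm
      have hw : wd ≠ 0 := by
        intro h0; rw [h0] at e3; simp at e3
      refine ⟨fSym (F fid) :: l, ?_, ?_⟩
      · rw [unpack_pos hw, e3]
        have : Nat.shiftRight wd 4 = wd / 16 := Nat.shiftRight_eq_div_pow wd 4
        rw [this] at hl
        rw [hl]; rfl
      · have := H.mul_mem hv hmem
        rw [wprod_cons]
        convert this using 1
        group
    · -- the empty word
      obtain ⟨l, hl, hmem⟩ := ih _ _ h
      have e2 : fSym (F fid) = 15 := Nat.eq_of_beq_eq_true h2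
      rw [e2, hv15] at hv
      refine ⟨l, hl, ?_⟩
      have := H.mul_mem hv hmem
      convert this using 1
      group

include hv15 hinv in
theorem factK_sound {RW R0 kk rec : ℕ}
    (hrel1 : ∀ rid < R0, wprod v (unpack (relW RW rid)) = 1)
    (hrel2 : ∀ rid, wprod v (unpack (relW RW rid)) ∈ H)
    (hall : ∀ j < kk, Valid H v F j) (h : factK F RW R0 kk rec = true) :
    Valid H v F kk := by
  unfold factK at h
  obtain ⟨h0, h⟩ := boolRec_false_eq_true h
  have hkk : 1 ≤ kk := Nat.le_of_ble_eq_true h0
  set rid := Nat.land rec 255 with hrid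
  set p := fSrc (F kk) with hp
  set q := fDst (F kk) with hq
  set s := fSym (F kk) with hs
  have hrun : stepsK F (Nat.sub kk 1) rec p (lastW (F kk))
      (Nat.land (Nat.shiftRight rec 8) 65535) q (relW RW rid) = true ∧ (rid < R0 ∨ q = 0) := by
    rcases boolRec_eq_true h with ⟨h2, h⟩ | ⟨h2, h⟩
    · obtain ⟨h3, h⟩ := boolRec_false_eq_true h
      exact ⟨h, Or.inr (Nat.eq_of_beq_eq_true h3)⟩
    · exact ⟨h, Or.inl (Nat.le_of_ble_eq_true h2)⟩
  obtain ⟨hrun, hcase⟩ := hrun
  have hall' : ∀ j ≤ Nat.sub kk 1, Valid H v F j := by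
    intro j hj
    apply hall
    have : Nat.sub kk 1 = kk - 1 := rfl
    omega
  obtain ⟨l, hun, hmem⟩ := stepsK_sound H v F hv15 hinv hall' _ _ _ hrun
  -- the word of the relator is `l` followed by the symbol
  have hword : wprod v (unpack (relW RW rid)) = wprod v l * v s := by
    rw [hun, wprod_append]
    congr 1
    cases h3 : Nat.beq s 15 with
    | true =>
      have e2 : lastW (F kk) = 0 := by
        show @Bool.rec (fun _ => ℕ) (Nat.succ s) 0 (Nat.beq s 15) = 0
        rw [h3]
      have : s = 15 := Nat.eq_of_beq_eq_true h3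
      rw [e2, this, hv15, unpack_zero]; rfl
    | false =>
      have e2 : lastW (F kk) = s + 1 := by
        show @Bool.rec (fun _ => ℕ) (Nat.succ s) 0 (Nat.beq s 15) = s + 1
        rw [h3]
      have hne : s ≠ 15 := fun h15 => by rw [h15] at h3; exact absurd h3 (by decide)
      have hlt : s < 16 := fSym_lt (F kk)
      have h15 : s < 15 := by omega
      have hw : s + 1 ≠ 0 := by omega
      rw [e2, unpack_pos hw]
      have a1 : (s + 1) % 16 - 1 = s := by omega
      have a2 : (s + 1) / 16 = 0 := by omega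
      rw [a1, a2, unpack_zero, wprod_cons, wprod_nil, mul_one]
  have hX : tau v F q * wprod v (unpack (relW RW rid)) * (tau v F q)⁻¹ ∈ H := by
    rcases hcase with h1 | h1
    · rw [hrel1 rid h1, mul_one, mul_inv_cancel]; exact H.one_mem
    · rw [h1, tau_zero, one_mul, inv_one, mul_one]; exact hrel2 rid
  have := H.mul_mem (H.inv_mem hmem) hX
  show tau v F p * v s * (tau v F q)⁻¹ ∈ H
  rw [hword] at this
  convert this using 1
  group

include hv15 hinv in
theorem chunkK_sound {RW R0 : ℕ}
    (hrel1 : ∀ rid < R0, wprod v (unpack (relW RW rid)) = 1)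
    (hrel2 : ∀ rid, wprod v (unpack (relW RW rid)) ∈ H) :
    ∀ (recs : List ℕ) (kk : ℕ), chunkK F RW R0 recs kk = true →
      ∀ k, kk ≤ k → k < kk + recs.length → (∀ j < k, Valid H v F j) → Valid H v F k := by
  intro recs
  induction recs with
  | nil => intro kk _ k h1 h2; simp at h2; omega
  | cons r recs ih =>
    intro kk h k h1 h2 hall
    have e0 : chunkK F RW R0 (r :: recs) kk =
        @Bool.rec (fun _ => Bool) false
          (forceN (Nat.succ kk) (fun kk' => chunkK F RW R0 recs kk')) (factK F RW R0 kk r) := rfl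
    rw [e0] at h
    obtain ⟨hf, h⟩ := boolRec_false_eq_true h
    rw [forceN_eq] at h
    rcases Nat.eq_or_lt_of_le h1 with h3 | h3
    · rw [← h3]
      exact factK_sound H v F hv15 hinv hrel1 hrel2
        (fun j hj => hall j (lt_of_lt_of_le hj h1)) hf
    · have h4 : k < Nat.succ kk + recs.length := by
        rw [List.length_cons] at h2; omega
      exact ih (Nat.succ kk) h k h3 h4 hall

end Sound

end Cfsg.Agent.Lib.Helper12.TC
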