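import Cfsg.Agent.Lib.Helper12.TC.Main
import Cfsg.Prelude.Def_Spor_He

/-!
The presentation of He: numbering of the generators and the further relators as positive words
(generated, helper12).
-/

set_option autoImplicit false
set_option linter.unusedSimpArgs false

namespace Cfsg.Agent.Lib.Helper12.TC.HePres

open Cfsg.Spor Cfsg.Agent.Lib.Helper12.TC

/-- numbering of the generators -/
def gen : ℕ → He.Gen
  | 0 => .a
  | 1 => .b
  | 2 => .c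
  | 3 => .d
  | 4 => .e
  | 5 => .f
  | _ => .g

/-- numbering of the generators -/
def idx : He.Gen → ℕ
  | .a => 0
  | .b => 1
  | .c => 2
  | .d => 3
  | .e => 4
  | .f => 5
  | .g => 6

theorem hidx : ∀ y, idx y < 7 ∧ gen (idx y) = y := by
  intro y
  cases y <;> exact ⟨by decide, rfl⟩

theorem hgi : ∀ i < 7, idx (gen i) = i := by decide

theorem hnodes : ∀ y : He.Gen, y ∈ coxNodes He.edges := by
  intro y
  cases y <;> decide

/-- the further relators as positive words -/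
def extraWords : List (List ℕ) :=
  [[4, 6, 5, 6, 5],
   [4, 2, 1, 0, 2, 1, 0, 2, 1, 0],
   [0, 3, 2, 3, 2, 3, 2, 3, 2, 3, 2],
   [2, 3, 5, 6, 2, 3, 5, 6, 2, 3, 5, 6, 2, 3, 5, 6]]

set_option maxRecDepth 10000 in
set_option maxHeartbeats 1000000 in
theorem hextra : ∀ {K : Type} [Group K] (φ : FreeGroup He.Gen →* K),
    (∀ y, φ (FreeGroup.of y) * φ (FreeGroup.of y) = 1) →
    ((∀ r ∈ He.extra, φ r = 1) ↔
      ∀ b ∈ extraWords, wprod (fun i => φ (FreeGroup.of (gen i))) b = 1) := by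
  intro K _ φ hsq
  have hi : ∀ y, (φ (FreeGroup.of y))⁻¹ = φ (FreeGroup.of y) :=
    fun y => inv_eq_of_mul_eq_one_left (hsq y)
  have e0 : φ (Cfsg.Spor.He.e * ((Cfsg.Spor.He.f * Cfsg.Spor.He.g) ^ 2)⁻¹) =
      wprod (fun i => φ (FreeGroup.of (gen i))) [4, 6, 5, 6, 5] := by
    simp only [map_mul, map_inv, mul_inv_rev, pow_succ, pow_zero, one_mul, hi, wprod,
      List.map, List.prod_cons, List.prod_nil, mul_one, mul_assoc, gen]
  have e1 : φ (Cfsg.Spor.He.e * ((Cfsg.Spor.He.a * Cfsg.Spor.He.b * Cfsg.Spor.He.c) ^ 3)⁻¹) =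
      wprod (fun i => φ (FreeGroup.of (gen i))) [4, 2, 1, 0, 2, 1, 0, 2, 1, 0] := by
    simp only [map_mul, map_inv, mul_inv_rev, pow_succ, pow_zero, one_mul, hi, wprod,
      List.map, List.prod_cons, List.prod_nil, mul_one, mul_assoc, gen]
  have e2 : φ (Cfsg.Spor.He.a * ((Cfsg.Spor.He.c * Cfsg.Spor.He.d) ^ 5)⁻¹) =
      wprod (fun i => φ (FreeGroup.of (gen i))) [0, 3, 2, 3, 2, 3, 2, 3, 2, 3, 2] := by
    simp only [map_mul, map_inv, mul_inv_rev, pow_succ, pow_zero, one_mul, hi, wprod,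
      List.map, List.prod_cons, List.prod_nil, mul_one, mul_assoc, gen]
  have e3 : φ ((Cfsg.Spor.He.c * Cfsg.Spor.He.d * Cfsg.Spor.He.f * Cfsg.Spor.He.g) ^ 4) =
      wprod (fun i => φ (FreeGroup.of (gen i))) [2, 3, 5, 6, 2, 3, 5, 6, 2, 3, 5, 6, 2, 3, 5, 6] := by
    simp only [map_mul, map_inv, mul_inv_rev, pow_succ, pow_zero, one_mul, hi, wprod,
      List.map, List.prod_cons, List.prod_nil, mul_one, mul_assoc, gen]
  have hL : (∀ r ∈ He.extra, φ r = 1) ↔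
      (φ (Cfsg.Spor.He.e * ((Cfsg.Spor.He.f * Cfsg.Spor.He.g) ^ 2)⁻¹) = 1 ∧
       φ (Cfsg.Spor.He.e * ((Cfsg.Spor.He.a * Cfsg.Spor.He.b * Cfsg.Spor.He.c) ^ 3)⁻¹) = 1 ∧
       φ (Cfsg.Spor.He.a * ((Cfsg.Spor.He.c * Cfsg.Spor.He.d) ^ 5)⁻¹) = 1 ∧
       φ ((Cfsg.Spor.He.c * Cfsg.Spor.He.d * Cfsg.Spor.He.f * Cfsg.Spor.He.g) ^ 4) = 1) := by
    show (∀ r ∈ [Cfsg.Spor.He.e * ((Cfsg.Spor.He.f * Cfsg.Spor.He.g) ^ 2)⁻¹,
      Cfsg.Spor.He.e * ((Cfsg.Spor.He.a * Cfsg.Spor.He.b * Cfsg.Spor.He.c) ^ 3)⁻¹,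
      Cfsg.Spor.He.a * ((Cfsg.Spor.He.c * Cfsg.Spor.He.d) ^ 5)⁻¹,
      (Cfsg.Spor.He.c * Cfsg.Spor.He.d * Cfsg.Spor.He.f * Cfsg.Spor.He.g) ^ 4], φ r = 1) ↔ _
    simp only [List.forall_mem_cons, List.not_mem_nil, false_imp_iff, implies_true, and_true]
  have hR : (∀ b ∈ extraWords, wprod (fun i => φ (FreeGroup.of (gen i))) b = 1) ↔
      (wprod (fun i => φ (FreeGroup.of (gen i))) [4, 6, 5, 6, 5] = 1 ∧
       wprod (fun i => φ (FreeGroup.of (gen i))) [4, 2, 1, 0, 2, 1, 0, 2, 1, 0] = 1 ∧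
       wprod (fun i => φ (FreeGroup.of (gen i))) [0, 3, 2, 3, 2, 3, 2, 3, 2, 3, 2] = 1 ∧
       wprod (fun i => φ (FreeGroup.of (gen i))) [2, 3, 5, 6, 2, 3, 5, 6, 2, 3, 5, 6, 2, 3, 5, 6] = 1) := by
    show (∀ b ∈ [_, _, _, _], _) ↔ _
    simp only [List.forall_mem_cons, List.not_mem_nil, false_imp_iff, implies_true, and_true]
  rw [hL, hR, e0, e1, e2, e3]

end Cfsg.Agent.Lib.Helper12.TC.HePres
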