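import Cfsg.Agent.Lib.Helper12.TC.Main
import Cfsg.Agent.Lib.Helper12.Ord.CoxE6

/-!
The presentation of CoxE6: numbering of the generators and the further relators as positive words
(generated, helper12).
-/

set_option autoImplicit false
set_option linter.unusedSimpArgs false

namespace Cfsg.Agent.Lib.Helper12.TC.CoxE6Pres

open Cfsg.Spor Cfsg.Agent.Lib.Helper12.Ord Cfsg.Agent.Lib.Helper12.TC

/-- numbering of the generators -/
def gen : ℕ → CoxE6.Gen
  | 0 => .b
  | 1 => .c
  | 2 => .d
  | 3 => .e
  | 4 => .f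
  | _ => .h

/-- numbering of the generators -/
def idx : CoxE6.Gen → ℕ
  | .b => 0
  | .c => 1
  | .d => 2
  | .e => 3
  | .f => 4
  | .h => 5

theorem hidx : ∀ y, idx y < 6 ∧ gen (idx y) = y := by
  intro y
  cases y <;> exact ⟨by decide, rfl⟩

theorem hgi : ∀ i < 6, idx (gen i) = i := by decide

theorem hnodes : ∀ y : CoxE6.Gen, y ∈ coxNodes CoxE6.edges := by
  intro y
  cases y <;> decide

/-- the further relators as positive words -/
def extraWords : List (List ℕ) :=
  []

set_option maxRecDepth 10000 in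
set_option maxHeartbeats 1000000 in
theorem hextra : ∀ {K : Type} [Group K] (φ : FreeGroup CoxE6.Gen →* K),
    (∀ y, φ (FreeGroup.of y) * φ (FreeGroup.of y) = 1) →
    ((∀ r ∈ CoxE6.extra, φ r = 1) ↔
      ∀ b ∈ extraWords, wprod (fun i => φ (FreeGroup.of (gen i))) b = 1) := by
  intro K _ φ hsq
  constructor
  · intro _ b hb
    exact absurd hb List.not_mem_nil
  · intro _ r hr
    exact absurd hr List.not_mem_nil

end Cfsg.Agent.Lib.Helper12.TC.CoxE6Pres
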