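import Cfsg.Agent.Lib.Helper12.TC.Main
import Cfsg.Prelude.Def_Spor_Fi22

/-!
The presentation of Fi22: numbering of the generators and the further relators as positive words
(generated, helper12).
-/

set_option autoImplicit false
set_option linter.unusedSimpArgs false

namespace Cfsg.Agent.Lib.Helper12.TC.Fi22Pres

open Cfsg.Spor Cfsg.Agent.Lib.Helper12.TC

/-- numbering of the generators -/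
def gen : ℕ → Fi22.Gen
  | 0 => .a
  | 1 => .b
  | 2 => .c
  | 3 => .d
  | 4 => .e
  | 5 => .f
  | 6 => .g
  | 7 => .h
  | _ => .i

/-- numbering of the generators -/
def idx : Fi22.Gen → ℕ
  | .a => 0
  | .b => 1
  | .c => 2
  | .d => 3
  | .e => 4
  | .f => 5
  | .g => 6
  | .h => 7
  | .i => 8

theorem hidx : ∀ y, idx y < 9 ∧ gen (idx y) = y := by
  intro y
  cases y <;> exact ⟨by decide, rfl⟩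

theorem hgi : ∀ i < 9, idx (gen i) = i := by decide

theorem hnodes : ∀ y : Fi22.Gen, y ∈ coxNodes Fi22.edges := by
  intro y
  cases y <;> decide

/-- the further relators as positive words -/
def extraWords : List (List ℕ) :=
  [[3, 2, 1, 3, 4, 5, 3, 7, 8, 3, 2, 1, 3, 4, 5, 3, 7, 8, 3, 2, 1, 3, 4, 5, 3, 7, 8, 3, 2, 1, 3, 4, 5, 3, 7, 8, 3, 2, 1, 3, 4, 5, 3, 7, 8, 3, 2, 1, 3, 4, 5, 3, 7, 8, 3, 2, 1, 3, 4, 5, 3, 7, 8, 3, 2, 1, 3, 4, 5, 3, 7, 8, 3, 2, 1, 3, 4, 5, 3, 7, 8, 3, 2, 1, 3, 4, 5, 3, 7, 8],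
   [0, 1, 2, 3, 4, 5, 7, 0, 1, 2, 3, 4, 5, 7, 0, 1, 2, 3, 4, 5, 7, 0, 1, 2, 3, 4, 5, 7, 0, 1, 2, 3, 4, 5, 7, 0, 1, 2, 3, 4, 5, 7, 0, 1, 2, 3, 4, 5, 7, 0, 1, 2, 3, 4, 5, 7, 0, 1, 2, 3, 4, 5, 7],
   [1, 2, 3, 4, 5, 6, 7, 1, 2, 3, 4, 5, 6, 7, 1, 2, 3, 4, 5, 6, 7, 1, 2, 3, 4, 5, 6, 7, 1, 2, 3, 4, 5, 6, 7, 1, 2, 3, 4, 5, 6, 7, 1, 2, 3, 4, 5, 6, 7, 1, 2, 3, 4, 5, 6, 7, 1, 2, 3, 4, 5, 6, 7]]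

set_option maxRecDepth 10000 in
set_option maxHeartbeats 1000000 in
theorem hextra : ∀ {K : Type} [Group K] (φ : FreeGroup Fi22.Gen →* K),
    (∀ y, φ (FreeGroup.of y) * φ (FreeGroup.of y) = 1) →
    ((∀ r ∈ Fi22.extra, φ r = 1) ↔
      ∀ b ∈ extraWords, wprod (fun i => φ (FreeGroup.of (gen i))) b = 1) := by
  intro K _ φ hsq
  have hi : ∀ y, (φ (FreeGroup.of y))⁻¹ = φ (FreeGroup.of y) :=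
    fun y => inv_eq_of_mul_eq_one_left (hsq y)
  have e0 : φ ((Cfsg.Spor.Fi22.d * Cfsg.Spor.Fi22.c * Cfsg.Spor.Fi22.b * Cfsg.Spor.Fi22.d * Cfsg.Spor.Fi22.e * Cfsg.Spor.Fi22.f * Cfsg.Spor.Fi22.d * Cfsg.Spor.Fi22.h * Cfsg.Spor.Fi22.i) ^ 10) =
      wprod (fun i => φ (FreeGroup.of (gen i))) [3, 2, 1, 3, 4, 5, 3, 7, 8, 3, 2, 1, 3, 4, 5, 3, 7, 8, 3, 2, 1, 3, 4, 5, 3, 7, 8, 3, 2, 1, 3, 4, 5, 3, 7, 8, 3, 2, 1, 3, 4, 5, 3, 7, 8, 3, 2, 1, 3, 4, 5, 3, 7, 8, 3, 2, 1, 3, 4, 5, 3, 7, 8, 3, 2, 1, 3, 4, 5, 3, 7, 8, 3, 2, 1, 3, 4, 5, 3, 7, 8, 3, 2, 1, 3, 4, 5, 3, 7, 8] := by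
    simp only [map_mul, map_inv, mul_inv_rev, pow_succ, pow_zero, one_mul, hi, wprod,
      List.map, List.prod_cons, List.prod_nil, mul_one, mul_assoc, gen]
  have e1 : φ ((Cfsg.Spor.Fi22.a * Cfsg.Spor.Fi22.b * Cfsg.Spor.Fi22.c * Cfsg.Spor.Fi22.d * Cfsg.Spor.Fi22.e * Cfsg.Spor.Fi22.f * Cfsg.Spor.Fi22.h) ^ 9) =
      wprod (fun i => φ (FreeGroup.of (gen i))) [0, 1, 2, 3, 4, 5, 7, 0, 1, 2, 3, 4, 5, 7, 0, 1, 2, 3, 4, 5, 7, 0, 1, 2, 3, 4, 5, 7, 0, 1, 2, 3, 4, 5, 7, 0, 1, 2, 3, 4, 5, 7, 0, 1, 2, 3, 4, 5, 7, 0, 1, 2, 3, 4, 5, 7, 0, 1, 2, 3, 4, 5, 7] := by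
    simp only [map_mul, map_inv, mul_inv_rev, pow_succ, pow_zero, one_mul, hi, wprod,
      List.map, List.prod_cons, List.prod_nil, mul_one, mul_assoc, gen]
  have e2 : φ ((Cfsg.Spor.Fi22.b * Cfsg.Spor.Fi22.c * Cfsg.Spor.Fi22.d * Cfsg.Spor.Fi22.e * Cfsg.Spor.Fi22.f * Cfsg.Spor.Fi22.g * Cfsg.Spor.Fi22.h) ^ 9) =
      wprod (fun i => φ (FreeGroup.of (gen i))) [1, 2, 3, 4, 5, 6, 7, 1, 2, 3, 4, 5, 6, 7, 1, 2, 3, 4, 5, 6, 7, 1, 2, 3, 4, 5, 6, 7, 1, 2, 3, 4, 5, 6, 7, 1, 2, 3, 4, 5, 6, 7, 1, 2, 3, 4, 5, 6, 7, 1, 2, 3, 4, 5, 6, 7, 1, 2, 3, 4, 5, 6, 7] := by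
    simp only [map_mul, map_inv, mul_inv_rev, pow_succ, pow_zero, one_mul, hi, wprod,
      List.map, List.prod_cons, List.prod_nil, mul_one, mul_assoc, gen]
  have hL : (∀ r ∈ Fi22.extra, φ r = 1) ↔
      (φ ((Cfsg.Spor.Fi22.d * Cfsg.Spor.Fi22.c * Cfsg.Spor.Fi22.b * Cfsg.Spor.Fi22.d * Cfsg.Spor.Fi22.e * Cfsg.Spor.Fi22.f * Cfsg.Spor.Fi22.d * Cfsg.Spor.Fi22.h * Cfsg.Spor.Fi22.i) ^ 10) = 1 ∧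
       φ ((Cfsg.Spor.Fi22.a * Cfsg.Spor.Fi22.b * Cfsg.Spor.Fi22.c * Cfsg.Spor.Fi22.d * Cfsg.Spor.Fi22.e * Cfsg.Spor.Fi22.f * Cfsg.Spor.Fi22.h) ^ 9) = 1 ∧
       φ ((Cfsg.Spor.Fi22.b * Cfsg.Spor.Fi22.c * Cfsg.Spor.Fi22.d * Cfsg.Spor.Fi22.e * Cfsg.Spor.Fi22.f * Cfsg.Spor.Fi22.g * Cfsg.Spor.Fi22.h) ^ 9) = 1) := by
    show (∀ r ∈ [(Cfsg.Spor.Fi22.d * Cfsg.Spor.Fi22.c * Cfsg.Spor.Fi22.b * Cfsg.Spor.Fi22.d * Cfsg.Spor.Fi22.e * Cfsg.Spor.Fi22.f * Cfsg.Spor.Fi22.d * Cfsg.Spor.Fi22.h * Cfsg.Spor.Fi22.i) ^ 10,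
      (Cfsg.Spor.Fi22.a * Cfsg.Spor.Fi22.b * Cfsg.Spor.Fi22.c * Cfsg.Spor.Fi22.d * Cfsg.Spor.Fi22.e * Cfsg.Spor.Fi22.f * Cfsg.Spor.Fi22.h) ^ 9,
      (Cfsg.Spor.Fi22.b * Cfsg.Spor.Fi22.c * Cfsg.Spor.Fi22.d * Cfsg.Spor.Fi22.e * Cfsg.Spor.Fi22.f * Cfsg.Spor.Fi22.g * Cfsg.Spor.Fi22.h) ^ 9], φ r = 1) ↔ _
    simp only [List.forall_mem_cons, List.not_mem_nil, false_imp_iff, implies_true, and_true]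
  have hR : (∀ b ∈ extraWords, wprod (fun i => φ (FreeGroup.of (gen i))) b = 1) ↔
      (wprod (fun i => φ (FreeGroup.of (gen i))) [3, 2, 1, 3, 4, 5, 3, 7, 8, 3, 2, 1, 3, 4, 5, 3, 7, 8, 3, 2, 1, 3, 4, 5, 3, 7, 8, 3, 2, 1, 3, 4, 5, 3, 7, 8, 3, 2, 1, 3, 4, 5, 3, 7, 8, 3, 2, 1, 3, 4, 5, 3, 7, 8, 3, 2, 1, 3, 4, 5, 3, 7, 8, 3, 2, 1, 3, 4, 5, 3, 7, 8, 3, 2, 1, 3, 4, 5, 3, 7, 8, 3, 2, 1, 3, 4, 5, 3, 7, 8] = 1 ∧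
       wprod (fun i => φ (FreeGroup.of (gen i))) [0, 1, 2, 3, 4, 5, 7, 0, 1, 2, 3, 4, 5, 7, 0, 1, 2, 3, 4, 5, 7, 0, 1, 2, 3, 4, 5, 7, 0, 1, 2, 3, 4, 5, 7, 0, 1, 2, 3, 4, 5, 7, 0, 1, 2, 3, 4, 5, 7, 0, 1, 2, 3, 4, 5, 7, 0, 1, 2, 3, 4, 5, 7] = 1 ∧
       wprod (fun i => φ (FreeGroup.of (gen i))) [1, 2, 3, 4, 5, 6, 7, 1, 2, 3, 4, 5, 6, 7, 1, 2, 3, 4, 5, 6, 7, 1, 2, 3, 4, 5, 6, 7, 1, 2, 3, 4, 5, 6, 7, 1, 2, 3, 4, 5, 6, 7, 1, 2, 3, 4, 5, 6, 7, 1, 2, 3, 4, 5, 6, 7, 1, 2, 3, 4, 5, 6, 7] = 1) := by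
    show (∀ b ∈ [_, _, _], _) ↔ _
    simp only [List.forall_mem_cons, List.not_mem_nil, false_imp_iff, implies_true, and_true]
  rw [hL, hR, e0, e1, e2]

end Cfsg.Agent.Lib.Helper12.TC.Fi22Pres
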