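import Cfsg.Agent.Lib.Helper12.TC.Main
import Cfsg.Agent.Lib.Helper12.Ord.Fi24P9

/-!
The presentation of Fi24P9: numbering of the generators and the further relators as positive words
(generated, helper12).
-/

set_option autoImplicit false
set_option linter.unusedSimpArgs false

namespace Cfsg.Agent.Lib.Helper12.TC.Fi24P9Pres

open Cfsg.Spor Cfsg.Agent.Lib.Helper12.Ord Cfsg.Agent.Lib.Helper12.TC

/-- numbering of the generators -/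
def gen : ℕ → Fi24P9.Gen
  | 0 => .l
  | 1 => .k
  | 2 => .a
  | 3 => .b
  | 4 => .c
  | 5 => .d
  | 6 => .e
  | 7 => .f
  | _ => .h

/-- numbering of the generators -/
def idx : Fi24P9.Gen → ℕ
  | .l => 0
  | .k => 1
  | .a => 2
  | .b => 3
  | .c => 4
  | .d => 5
  | .e => 6
  | .f => 7
  | .h => 8

theorem hidx : ∀ y, idx y < 9 ∧ gen (idx y) = y := by
  intro y
  cases y <;> exact ⟨by decide, rfl⟩

theorem hgi : ∀ i < 9, idx (gen i) = i := by decide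

theorem hnodes : ∀ y : Fi24P9.Gen, y ∈ coxNodes Fi24P9.edges := by
  intro y
  cases y <;> decide

/-- the further relators as positive words -/
def extraWords : List (List ℕ) :=
  [[0, 8, 7, 6, 5, 4, 3, 2, 8, 7, 6, 5, 4, 3, 2, 8, 7, 6, 5, 4, 3, 2, 8, 7, 6, 5, 4, 3, 2, 8, 7, 6, 5, 4, 3, 2, 8, 7, 6, 5, 4, 3, 2, 8, 7, 6, 5, 4, 3, 2, 8, 7, 6, 5, 4, 3, 2, 8, 7, 6, 5, 4, 3, 2]]

set_option maxRecDepth 10000 in
set_option maxHeartbeats 1000000 in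
theorem hextra : ∀ {K : Type} [Group K] (φ : FreeGroup Fi24P9.Gen →* K),
    (∀ y, φ (FreeGroup.of y) * φ (FreeGroup.of y) = 1) →
    ((∀ r ∈ Fi24P9.extra, φ r = 1) ↔
      ∀ b ∈ extraWords, wprod (fun i => φ (FreeGroup.of (gen i))) b = 1) := by
  intro K _ φ hsq
  have hi : ∀ y, (φ (FreeGroup.of y))⁻¹ = φ (FreeGroup.of y) :=
    fun y => inv_eq_of_mul_eq_one_left (hsq y)
  have e0 : φ (Cfsg.Agent.Lib.Helper12.Ord.Fi24P9.l * ((Cfsg.Agent.Lib.Helper12.Ord.Fi24P9.a * Cfsg.Agent.Lib.Helper12.Ord.Fi24P9.b * Cfsg.Agent.Lib.Helper12.Ord.Fi24P9.c * Cfsg.Agent.Lib.Helper12.Ord.Fi24P9.d * Cfsg.Agent.Lib.Helper12.Ord.Fi24P9.e * Cfsg.Agent.Lib.Helper12.Ord.Fi24P9.f * Cfsg.Agent.Lib.Helper12.Ord.Fi24P9.h) ^ 9)⁻¹) =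
      wprod (fun i => φ (FreeGroup.of (gen i))) [0, 8, 7, 6, 5, 4, 3, 2, 8, 7, 6, 5, 4, 3, 2, 8, 7, 6, 5, 4, 3, 2, 8, 7, 6, 5, 4, 3, 2, 8, 7, 6, 5, 4, 3, 2, 8, 7, 6, 5, 4, 3, 2, 8, 7, 6, 5, 4, 3, 2, 8, 7, 6, 5, 4, 3, 2, 8, 7, 6, 5, 4, 3, 2] := by
    simp only [map_mul, map_inv, mul_inv_rev, pow_succ, pow_zero, one_mul, hi, wprod,
      List.map, List.prod_cons, List.prod_nil, mul_one, mul_assoc, gen]
  have hL : (∀ r ∈ Fi24P9.extra, φ r = 1) ↔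
      (φ (Cfsg.Agent.Lib.Helper12.Ord.Fi24P9.l * ((Cfsg.Agent.Lib.Helper12.Ord.Fi24P9.a * Cfsg.Agent.Lib.Helper12.Ord.Fi24P9.b * Cfsg.Agent.Lib.Helper12.Ord.Fi24P9.c * Cfsg.Agent.Lib.Helper12.Ord.Fi24P9.d * Cfsg.Agent.Lib.Helper12.Ord.Fi24P9.e * Cfsg.Agent.Lib.Helper12.Ord.Fi24P9.f * Cfsg.Agent.Lib.Helper12.Ord.Fi24P9.h) ^ 9)⁻¹) = 1) := by
    show (∀ r ∈ [Cfsg.Agent.Lib.Helper12.Ord.Fi24P9.l * ((Cfsg.Agent.Lib.Helper12.Ord.Fi24P9.a * Cfsg.Agent.Lib.Helper12.Ord.Fi24P9.b * Cfsg.Agent.Lib.Helper12.Ord.Fi24P9.c * Cfsg.Agent.Lib.Helper12.Ord.Fi24P9.d * Cfsg.Agent.Lib.Helper12.Ord.Fi24P9.e * Cfsg.Agent.Lib.Helper12.Ord.Fi24P9.f * Cfsg.Agent.Lib.Helper12.Ord.Fi24P9.h) ^ 9)⁻¹], φ r = 1) ↔ _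
    simp only [List.forall_mem_cons, List.not_mem_nil, false_imp_iff, implies_true, and_true]
  have hR : (∀ b ∈ extraWords, wprod (fun i => φ (FreeGroup.of (gen i))) b = 1) ↔
      (wprod (fun i => φ (FreeGroup.of (gen i))) [0, 8, 7, 6, 5, 4, 3, 2, 8, 7, 6, 5, 4, 3, 2, 8, 7, 6, 5, 4, 3, 2, 8, 7, 6, 5, 4, 3, 2, 8, 7, 6, 5, 4, 3, 2, 8, 7, 6, 5, 4, 3, 2, 8, 7, 6, 5, 4, 3, 2, 8, 7, 6, 5, 4, 3, 2, 8, 7, 6, 5, 4, 3, 2] = 1) := by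
    show (∀ b ∈ [_], _) ↔ _
    simp only [List.forall_mem_cons, List.not_mem_nil, false_imp_iff, implies_true, and_true]
  rw [hL, hR, e0]

end Cfsg.Agent.Lib.Helper12.TC.Fi24P9Pres
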