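import Cfsg.Agent.Lib.Helper12.TC.Main
import Cfsg.Agent.Lib.Helper12.Ord.HeP2

/-!
The presentation of HeP2: numbering of the generators and the further relators as positive words
(generated, helper12).
-/

set_option autoImplicit false
set_option linter.unusedSimpArgs false

namespace Cfsg.Agent.Lib.Helper12.TC.HeP2Pres

open Cfsg.Spor Cfsg.Agent.Lib.Helper12.Ord Cfsg.Agent.Lib.Helper12.TC

/-- numbering of the generators -/
def gen : ℕ → HeP2.Gen
  | 0 => .d
  | 1 => .e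
  | 2 => .f
  | _ => .g

/-- numbering of the generators -/
def idx : HeP2.Gen → ℕ
  | .d => 0
  | .e => 1
  | .f => 2
  | .g => 3

theorem hidx : ∀ y, idx y < 4 ∧ gen (idx y) = y := by
  intro y
  cases y <;> exact ⟨by decide, rfl⟩

theorem hgi : ∀ i < 4, idx (gen i) = i := by decide

theorem hnodes : ∀ y : HeP2.Gen, y ∈ coxNodes HeP2.edges := by
  intro y
  cases y <;> decide

/-- the further relators as positive words -/
def extraWords : List (List ℕ) :=
  [[1, 3, 2, 3, 2]]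

set_option maxRecDepth 10000 in
set_option maxHeartbeats 1000000 in
theorem hextra : ∀ {K : Type} [Group K] (φ : FreeGroup HeP2.Gen →* K),
    (∀ y, φ (FreeGroup.of y) * φ (FreeGroup.of y) = 1) →
    ((∀ r ∈ HeP2.extra, φ r = 1) ↔
      ∀ b ∈ extraWords, wprod (fun i => φ (FreeGroup.of (gen i))) b = 1) := by
  intro K _ φ hsq
  have hi : ∀ y, (φ (FreeGroup.of y))⁻¹ = φ (FreeGroup.of y) :=
    fun y => inv_eq_of_mul_eq_one_left (hsq y)
  have e0 : φ (Cfsg.Agent.Lib.Helper12.Ord.HeP2.e * ((Cfsg.Agent.Lib.Helper12.Ord.HeP2.f * Cfsg.Agent.Lib.Helper12.Ord.HeP2.g) ^ 2)⁻¹) =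
      wprod (fun i => φ (FreeGroup.of (gen i))) [1, 3, 2, 3, 2] := by
    simp only [map_mul, map_inv, mul_inv_rev, pow_succ, pow_zero, one_mul, hi, wprod,
      List.map, List.prod_cons, List.prod_nil, mul_one, mul_assoc, gen]
  have hL : (∀ r ∈ HeP2.extra, φ r = 1) ↔
      (φ (Cfsg.Agent.Lib.Helper12.Ord.HeP2.e * ((Cfsg.Agent.Lib.Helper12.Ord.HeP2.f * Cfsg.Agent.Lib.Helper12.Ord.HeP2.g) ^ 2)⁻¹) = 1) := by
    show (∀ r ∈ [Cfsg.Agent.Lib.Helper12.Ord.HeP2.e * ((Cfsg.Agent.Lib.Helper12.Ord.HeP2.f * Cfsg.Agent.Lib.Helper12.Ord.HeP2.g) ^ 2)⁻¹], φ r = 1) ↔ _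
    simp only [List.forall_mem_cons, List.not_mem_nil, false_imp_iff, implies_true, and_true]
  have hR : (∀ b ∈ extraWords, wprod (fun i => φ (FreeGroup.of (gen i))) b = 1) ↔
      (wprod (fun i => φ (FreeGroup.of (gen i))) [1, 3, 2, 3, 2] = 1) := by
    show (∀ b ∈ [_], _) ↔ _
    simp only [List.forall_mem_cons, List.not_mem_nil, false_imp_iff, implies_true, and_true]
  rw [hL, hR, e0]

end Cfsg.Agent.Lib.Helper12.TC.HeP2Pres
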