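import Cfsg.Agent.Lib.Helper12.TC.Core

/-!
From a verified certificate to the index of the subgroup and the orbits on its cosets (helper12).
-/

set_option autoImplicit false

namespace Cfsg.Agent.Lib.Helper12.TC

/-! ### kernel friendly list and table functions -/

/-- entry `n` of a list of numbers -/
def nthK (l : List ℕ) (n : ℕ) : ℕ :=
  @List.rec ℕ (fun _ => ℕ → ℕ) (fun _ => 0)
    (fun a _ ih n => @Nat.rec (fun _ => ℕ) a (fun n' _ => ih n') n) l n

/-- table access: column `x`, row `i` (16 bit entries) -/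
def Tget (TT : List ℕ) (x i : ℕ) : ℕ := Nat.mod (Nat.shiftRight (nthK TT x) (Nat.mul 16 i)) 65536

/-- the action of a word on a point: the last letter acts first -/
def applyW (TT : List ℕ) (l : List ℕ) (i : ℕ) : ℕ :=
  @List.rec ℕ (fun _ => ℕ) i (fun x _ ih => Tget TT x ih) l

theorem applyW_nil (TT : List ℕ) (i : ℕ) : applyW TT [] i = i := rfl
theorem applyW_cons (TT : List ℕ) (x : ℕ) (l : List ℕ) (i : ℕ) :
    applyW TT (x :: l) i = Tget TT x (applyW TT l i) := rfl

/-- universal quantifier over a list -/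
def allListK {α : Type} (l : List α) (p : α → Bool) : Bool :=
  @List.rec α (fun _ => Bool) true (fun a _ ih => cond (p a) ih false) l

theorem allListK_iff {α : Type} (l : List α) (p : α → Bool) :
    allListK l p = true ↔ ∀ a ∈ l, p a = true := by
  induction l with
  | nil => exact ⟨fun _ a ha => absurd ha (List.not_mem_nil), fun _ => rfl⟩
  | cons b l ih =>
    have e : allListK (b :: l) p = cond (p b) (allListK l p) false := rfl
    rw [e]
    constructor
    · intro h a ha
      cases hp : p b with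
      | false => rw [hp] at h; exact absurd h (by simp)
      | true =>
        rw [hp] at h
        rcases List.mem_cons.mp ha with h1 | h1
        · rw [h1]; exact hp
        · exact ih.mp h a h1
    · intro h
      rw [h b List.mem_cons_self]
      exact ih.mpr (fun a ha => h a (List.mem_cons_of_mem _ ha))

/-- existential quantifier over a list -/
def anyListK {α : Type} (l : List α) (p : α → Bool) : Bool :=
  @List.rec α (fun _ => Bool) false (fun a _ ih => cond (p a) true ih) l

theorem anyListK_iff {α : Type} (l : List α) (p : α → Bool) :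
    anyListK l p = true ↔ ∃ a ∈ l, p a = true := by
  induction l with
  | nil => exact ⟨fun h => (Bool.false_ne_true h).elim, fun ⟨a, ha, _⟩ => absurd ha (List.not_mem_nil)⟩
  | cons b l ih =>
    have e : anyListK (b :: l) p = cond (p b) true (anyListK l p) := rfl
    rw [e]
    constructor
    · intro h
      cases hp : p b with
      | true => exact ⟨b, List.mem_cons_self, hp⟩
      | false =>
        rw [hp] at h
        obtain ⟨a, ha, hpa⟩ := ih.mp h
        exact ⟨a, List.mem_cons_of_mem _ ha, hpa⟩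
    · rintro ⟨a, ha, hpa⟩
      cases hp : p b with
      | true => rfl
      | false =>
        rcases List.mem_cons.mp ha with h1 | h1
        · rw [h1] at hpa; rw [hpa] at hp; exact absurd hp (by decide)
        · exact ih.mpr ⟨a, h1, hpa⟩

/-- bounded existential quantifier -/
def anyBelowK (n : ℕ) (p : ℕ → Bool) : Bool :=
  @Nat.rec (fun _ => Bool) false (fun k ih => cond (p k) true ih) n

theorem anyBelowK_iff (n : ℕ) (p : ℕ → Bool) : anyBelowK n p = true ↔ ∃ k < n, p k = true := by
  induction n with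
  | zero => exact ⟨fun h => (Bool.false_ne_true h).elim, fun ⟨k, hk, _⟩ => absurd hk (Nat.not_lt_zero k)⟩
  | succ n ih =>
    have e : anyBelowK (n+1) p = cond (p n) true (anyBelowK n p) := rfl
    rw [e]
    constructor
    · intro h
      cases hp : p n with
      | true => exact ⟨n, Nat.lt_succ_self n, hp⟩
      | false =>
        rw [hp] at h
        obtain ⟨k, hk, hpk⟩ := ih.mp h
        exact ⟨k, Nat.lt_succ_of_lt hk, hpk⟩
    · rintro ⟨k, hk, hpk⟩
      cases hp : p n with
      | true => rfl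
      | false =>
        rcases Nat.lt_succ_iff_lt_or_eq.mp hk with h1 | h1
        · exact ih.mpr ⟨k, h1, hpk⟩
        · rw [h1] at hpk; rw [hpk] at hp; exact absurd hp (by decide)

/-- every column `x < g` of the table is an involution of `[0, N)` -/
def permK (TT : List ℕ) (g N : ℕ) : Bool :=
  allBelowK g (fun x => allBelowK N (fun i =>
    Nat.blt (Tget TT x i) N && Nat.beq (Tget TT x (Tget TT x i)) i))

/-- every word of the list fixes every point below `N` -/
def relsK (TT : List ℕ) (N : ℕ) (rels : List (List ℕ)) : Bool :=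
  allListK rels (fun r => allBelowK N (fun i => Nat.beq (applyW TT r i) i))

/-- the subgroup words have letters below `g` and fix the point `0` -/
def subK (TT : List ℕ) (g : ℕ) (sw : List (List ℕ)) : Bool :=
  allListK sw (fun w => allListK w (fun s => Nat.blt s g) && Nat.beq (applyW TT w 0) 0)

/-- every point other than `0` is moved to a smaller point by a generator or a subgroup word -/
def transK (TT : List ℕ) (g N : ℕ) (sw : List (List ℕ)) : Bool :=
  allBelowK N (fun i => Nat.beq i 0 || (anyBelowK g (fun x => Nat.blt (Tget TT x i) i) ||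
    anyListK sw (fun w => Nat.blt (applyW TT w i) i)))

/-- bit `d` of `m` -/
def bitK (m d : ℕ) : Bool := Nat.beq (Nat.land (Nat.shiftRight m d) 1) 1

theorem bitK_iff (m d : ℕ) : bitK m d = true ↔ m.testBit d = true := by
  have h1 : bitK m d = true ↔ (m >>> d) &&& 1 = 1 :=
    ⟨fun h => Nat.eq_of_beq_eq_true h, fun h => by
      show Nat.beq ((m >>> d) &&& 1) 1 = true
      rw [h]; rfl⟩
  rw [h1, Nat.testBit, Nat.and_comm 1, Nat.and_one_is_mod]
  simp only [bne_iff_ne, ne_eq]
  omega

/-- labels of the records of the final table -/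
def repsOf (recs : List ℕ) : List ℕ := recs.map (fun r => Nat.land r 1048575)

/-- bitmap of the labels of the records -/
def liveK (recs : List ℕ) : ℕ :=
  @List.rec ℕ (fun _ => ℕ) 0 (fun r _ ih => Nat.lor ih (Nat.shiftLeft 1 (Nat.land r 1048575))) recs

theorem bitK_liveK (recs : List ℕ) (d : ℕ) : bitK (liveK recs) d = true ↔ d ∈ repsOf recs := by
  rw [bitK_iff]
  induction recs with
  | nil =>
    show (0 : ℕ).testBit d = true ↔ d ∈ []
    simp
  | cons r recs ih =>
    have e : liveK (r :: recs) = liveK recs ||| (1 <<< (Nat.land r 1048575)) := rfl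
    have e2 : repsOf (r :: recs) = Nat.land r 1048575 :: repsOf recs := rfl
    rw [e, e2, Nat.testBit_lor, Bool.or_eq_true, ih, List.mem_cons, Nat.one_shiftLeft,
      Nat.testBit_two_pow]
    constructor
    · rintro (h | h)
      · exact Or.inr h
      · exact Or.inl (of_decide_eq_true h).symm
    · rintro (h | h)
      · exact Or.inr (decide_eq_true h.symm)
      · exact Or.inl h

/-- the fact with code `c` (number below `K`) says `p · x = q` with `q` live -/
def finOne (F : ℕ → ℕ) (LIVE c K p x : ℕ) : Bool :=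
  Nat.blt (Nat.shiftRight c 1) K &&
    forceN (F (Nat.shiftRight c 1)) (fun e =>
      Nat.beq (oSrc e (Nat.land c 1)) p &&
        (Nat.beq (fSym e) x && bitK LIVE (oDst e (Nat.land c 1))))

/-- one record of the final table: 20 bits label, then `g` codes of 24 bits -/
def finRec (F : ℕ → ℕ) (LIVE K g rec : ℕ) : Bool :=
  allBelowK g (fun x =>
    forceN (Nat.land (Nat.shiftRight rec (Nat.add 20 (Nat.mul 24 x))) 16777215) (fun c =>
      finOne F LIVE c K (Nat.land rec 1048575) x))

/-- the final table: the label `0` is live, and for every live label `p` and generator `x < g` a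
listed fact says `p · x = q` with `q` live -/
def finK (F : ℕ → ℕ) (K g : ℕ) (recs : List ℕ) : Bool :=
  bitK (liveK recs) 0 && allListK recs (fun rec => finRec F (liveK recs) K g rec)

/-- the interval `[lo, hi)` is mapped to itself by the subgroup words -/
def orbInvK (TT : List ℕ) (sw : List (List ℕ)) (lo hi : ℕ) : Bool :=
  allListK sw (fun w => allBelowK hi (fun i => Nat.blt i lo ||
    forceN (applyW TT w i) (fun j => Nat.ble lo j && Nat.blt j hi)))

/-- every point of `(lo, hi)` is moved to a smaller point by a subgroup word -/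
def orbConnK (TT : List ℕ) (sw : List (List ℕ)) (lo hi : ℕ) : Bool :=
  allBelowK hi (fun i => Nat.ble i lo || anyListK sw (fun w => Nat.blt (applyW TT w i) i))

section Main

variable {G : Type*} [Group G] (H : Subgroup G) (v : ℕ → G) (F : ℕ → ℕ)
variable (hinv : ∀ s, v s * v s = 1)
variable {TT : List ℕ} {g N K : ℕ}

theorem permK_lt (hperm : permK TT g N = true) {x i : ℕ} (hx : x < g) (hi : i < N) :
    Tget TT x i < N := by
  have h1 := (allBelowK_iff N _).mp ((allBelowK_iff g _).mp hperm x hx) i hi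
  rw [Bool.and_eq_true] at h1
  exact Nat.le_of_ble_eq_true h1.1

theorem permK_invol (hperm : permK TT g N = true) {x i : ℕ} (hx : x < g) (hi : i < N) :
    Tget TT x (Tget TT x i) = i := by
  have h1 := (allBelowK_iff N _).mp ((allBelowK_iff g _).mp hperm x hx) i hi
  rw [Bool.and_eq_true] at h1
  exact Nat.eq_of_beq_eq_true h1.2

include hinv in
theorem covering {recs : List ℕ} (hvalid : ∀ k < K, Valid H v F k)
    (hfin : finK F K g recs = true)
    (hgen : ∀ γ : G, γ ∈ Subgroup.closure {y | ∃ x < g, y = v x}) :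
    ∀ γ : G, ∃ ℓ ∈ repsOf recs, tau v F ℓ * γ⁻¹ ∈ H := by
  unfold finK at hfin
  rw [Bool.and_eq_true] at hfin
  have h0 : 0 ∈ repsOf recs := (bitK_liveK recs 0).mp hfin.1
  have key : ∀ ℓ ∈ repsOf recs, ∀ x < g, ∃ ℓ' ∈ repsOf recs,
      tau v F ℓ * v x * (tau v F ℓ')⁻¹ ∈ H := by
    intro ℓ hℓ x hx
    obtain ⟨rec, hrec, rfl⟩ := List.mem_map.mp hℓ
    have h1 := (allBelowK_iff g _).mp ((allListK_iff recs _).mp hfin.2 rec hrec) x hx
    rw [forceN_eq] at h1
    unfold finOne at h1
    simp only [forceN_eq, Bool.and_eq_true] at h1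
    obtain ⟨h2, h3, h4, h5⟩ := h1
    set c := Nat.land (Nat.shiftRight rec (Nat.add 20 (Nat.mul 24 x))) 16777215 with hc
    have h2' : Nat.shiftRight c 1 < K := Nat.le_of_ble_eq_true h2
    have hv := valid_oriented H v F hinv c (hvalid _ h2')
    rw [Nat.eq_of_beq_eq_true h3, Nat.eq_of_beq_eq_true h4] at hv
    exact ⟨_, (bitK_liveK recs _).mp h5, hv⟩
  have step : ∀ (γ : G) (x : ℕ), x < g → (∃ ℓ ∈ repsOf recs, tau v F ℓ * γ⁻¹ ∈ H) →
      ∃ ℓ ∈ repsOf recs, tau v F ℓ * (γ * v x)⁻¹ ∈ H := by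
    rintro γ x hx ⟨ℓ, hℓ, hmem⟩
    obtain ⟨ℓ', hℓ', hf⟩ := key ℓ hℓ x hx
    refine ⟨ℓ', hℓ', ?_⟩
    have := H.mul_mem (H.inv_mem hf) hmem
    convert this using 1
    group
  intro γ
  refine Subgroup.closure_induction_right
    (p := fun γ _ => ∃ ℓ ∈ repsOf recs, tau v F ℓ * γ⁻¹ ∈ H) ?_ ?_ ?_ (hgen γ)
  · refine ⟨0, h0, ?_⟩
    rw [tau_zero, inv_one, mul_one]; exact H.one_mem
  · rintro γ _ y ⟨x, hx, rfl⟩ ih
    exact step γ x hx ih
  · rintro γ _ y ⟨x, hx, rfl⟩ ih
    have : (v x)⁻¹ = v x := inv_eq_of_mul_eq_one_left (hinv x)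
    rw [this]
    exact step γ x hx ih

variable (ρ : G →* Equiv.Perm (Fin N))
variable (hρ : ∀ x < g, ∀ i : Fin N, ((ρ (v x) i : Fin N) : ℕ) = Tget TT x i)

include hρ in
theorem rho_word (l : List ℕ) (hl : ∀ s ∈ l, s < g) (i : Fin N) :
    ((ρ (wprod v l) i : Fin N) : ℕ) = applyW TT l i := by
  induction l with
  | nil => rw [wprod_nil, map_one]; rfl
  | cons s l ih =>
    rw [wprod_cons, map_mul, Equiv.Perm.mul_apply, hρ s (hl s List.mem_cons_self), applyW_cons,
      ih (fun t ht => hl t (List.mem_cons_of_mem _ ht))]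

variable {sw : List (List ℕ)}
variable (hH : H = Subgroup.closure {γ | ∃ w ∈ sw, γ = wprod v w})

include hρ hH in
theorem fix_zero (hsub : subK TT g sw = true) (hN : 0 < N) :
    ∀ h ∈ H, ρ h ⟨0, hN⟩ = ⟨0, hN⟩ := by
  intro h hh
  rw [hH] at hh
  refine Subgroup.closure_induction (p := fun h _ => ρ h ⟨0, hN⟩ = ⟨0, hN⟩) ?_ ?_ ?_ ?_ hh
  · rintro y ⟨w, hw, rfl⟩
    have h1 := (allListK_iff sw _).mp hsub w hw
    rw [Bool.and_eq_true] at h1
    have h2 : ∀ s ∈ w, s < g := fun s hs =>
      Nat.le_of_ble_eq_true ((allListK_iff w _).mp h1.1 s hs)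
    apply Fin.ext
    rw [rho_word v ρ hρ w h2]
    exact Nat.eq_of_beq_eq_true h1.2
  · rw [map_one]; rfl
  · intro x y _ _ hx hy
    rw [map_mul, Equiv.Perm.mul_apply, hy, hx]
  · intro x _ hx
    rw [map_inv, Equiv.Perm.inv_eq_iff_eq, hx]

include hρ in
theorem transitive (hsub : subK TT g sw = true)
    (htrans : transK TT g N sw = true) (hN : 0 < N) :
    ∀ i : Fin N, ∃ γ : G, ρ γ ⟨0, hN⟩ = i := by
  have main : ∀ n : ℕ, ∀ i : Fin N, i.val = n → ∃ γ : G, ρ γ ⟨0, hN⟩ = i := by
    intro n
    induction n using Nat.strong_induction_on with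
    | _ n ih =>
      intro i hi
      have h1 := (allBelowK_iff N _).mp htrans i.val i.isLt
      rw [Bool.or_eq_true, Bool.or_eq_true] at h1
      rcases h1 with h1 | h1 | h1
      · refine ⟨1, ?_⟩
        rw [map_one]
        apply Fin.ext
        exact (Nat.eq_of_beq_eq_true h1).symm
      · obtain ⟨x, hx, h2⟩ := (anyBelowK_iff g _).mp h1
        have h3 : Tget TT x i.val < i.val := Nat.le_of_ble_eq_true h2
        have h4 : ((ρ (v x) i : Fin N) : ℕ) < n := by rw [hρ x hx i, ← hi]; exact h3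
        obtain ⟨γ, hγ⟩ := ih _ h4 (ρ (v x) i) rfl
        refine ⟨(v x)⁻¹ * γ, ?_⟩
        rw [map_mul, Equiv.Perm.mul_apply, hγ, map_inv]
        exact Equiv.Perm.inv_eq_iff_eq.mpr rfl
      · obtain ⟨w, hw, h2⟩ := (anyListK_iff sw _).mp h1
        have h3 : applyW TT w i.val < i.val := Nat.le_of_ble_eq_true h2
        have h5 := (allListK_iff sw _).mp hsub w hw
        rw [Bool.and_eq_true] at h5
        have h6 : ∀ s ∈ w, s < g := fun s hs =>
          Nat.le_of_ble_eq_true ((allListK_iff w _).mp h5.1 s hs)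
        have h4 : ((ρ (wprod v w) i : Fin N) : ℕ) < n := by
          rw [rho_word v ρ hρ w h6 i, ← hi]; exact h3
        obtain ⟨γ, hγ⟩ := ih _ h4 (ρ (wprod v w) i) rfl
        refine ⟨(wprod v w)⁻¹ * γ, ?_⟩
        rw [map_mul, Equiv.Perm.mul_apply, hγ, map_inv]
        exact Equiv.Perm.inv_eq_iff_eq.mpr rfl
  intro i
  exact main i.val i rfl

include hinv hρ hH in
/-- The index of `H` is `N`, and the cosets of `H` correspond to the points. -/
theorem index_and_equiv {recs : List ℕ} (hvalid : ∀ k < K, Valid H v F k)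
    (hfin : finK F K g recs = true) (hlen : recs.length = N) (hN : 0 < N)
    (hgen : ∀ γ : G, γ ∈ Subgroup.closure {y | ∃ x < g, y = v x})
    (hsub : subK TT g sw = true) (htrans : transK TT g N sw = true) :
    H.index = N ∧ ∃ Φ : G ⧸ H ≃ Fin N, ∀ γ : G, Φ (γ : G ⧸ H) = ρ γ ⟨0, hN⟩ := by
  have hcov := covering H v F hinv hvalid hfin hgen
  have hfix := fix_zero H v ρ hρ hH hsub hN
  have htr := transitive v ρ hρ hsub htrans hN
  -- the map from cosets to points
  let Ψ : G ⧸ H → Fin N := Quotient.lift (fun γ : G => ρ γ ⟨0, hN⟩) (by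
    intro a b hab
    have h1 : a⁻¹ * b ∈ H := QuotientGroup.leftRel_apply.mp hab
    have h2 := hfix _ h1
    show ρ a ⟨0, hN⟩ = ρ b ⟨0, hN⟩
    have h3 : b = a * (a⁻¹ * b) := by group
    rw [h3, map_mul, Equiv.Perm.mul_apply, h2])
  have hΨ : ∀ γ : G, Ψ (γ : G ⧸ H) = ρ γ ⟨0, hN⟩ := fun γ => rfl
  have hsurj : Function.Surjective Ψ := by
    intro i
    obtain ⟨γ, hγ⟩ := htr i
    exact ⟨(γ : G ⧸ H), hγ⟩
  -- the map from the live labels to cosets
  let Θ : Fin (repsOf recs).length → G ⧸ H :=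
    fun i => (((tau v F ((repsOf recs).get i))⁻¹ : G) : G ⧸ H)
  have hΘ : Function.Surjective Θ := by
    intro q
    induction q using QuotientGroup.induction_on with
    | H γ =>
      obtain ⟨ℓ, hℓ, hmem⟩ := hcov γ⁻¹
      obtain ⟨i, hi⟩ := List.mem_iff_get.mp hℓ
      refine ⟨i, ?_⟩
      show (((tau v F ((repsOf recs).get i))⁻¹ : G) : G ⧸ H) = (γ : G ⧸ H)
      rw [QuotientGroup.eq, hi]
      rw [inv_inv] at hmem ⊢
      exact hmem
  have hfinite : Finite (G ⧸ H) := Finite.of_surjective Θ hΘ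
  have hle : Nat.card (G ⧸ H) ≤ N := by
    have := Nat.card_le_card_of_surjective Θ hΘ
    rw [Nat.card_fin] at this
    have h2 : (repsOf recs).length = N := by
      rw [← hlen]; exact List.length_map _
    rwa [h2] at this
  have hbij : Function.Bijective Ψ :=
    hsurj.bijective_of_nat_card_le (by rw [Nat.card_fin]; exact hle)
  refine ⟨?_, Equiv.ofBijective Ψ hbij, hΨ⟩
  have h1 := Nat.card_congr (Equiv.ofBijective Ψ hbij)
  rw [Nat.card_fin] at h1
  exact h1

include hρ hH in
/-- The orbits of `H` on the cosets, read off from the table. -/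
theorem orbit_image (Φ : G ⧸ H ≃ Fin N) (hN : 0 < N)
    (hΦ : ∀ γ : G, Φ (γ : G ⧸ H) = ρ γ ⟨0, hN⟩)
    (hsub : subK TT g sw = true) {lo hi : ℕ} (hlo : lo < hi) (hhi : hi ≤ N)
    (hoi : orbInvK TT sw lo hi = true) (hoc : orbConnK TT sw lo hi = true) :
    Φ '' (MulAction.orbit H (Φ.symm ⟨lo, lt_of_lt_of_le hlo hhi⟩)) =
      {i : Fin N | lo ≤ i.val ∧ i.val < hi} := by
  set b : Fin N := ⟨lo, lt_of_lt_of_le hlo hhi⟩ with hb
  have hletters : ∀ w ∈ sw, ∀ s ∈ w, s < g := by
    intro w hw s hs
    have h5 := (allListK_iff sw _).mp hsub w hw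
    rw [Bool.and_eq_true] at h5
    exact Nat.le_of_ble_eq_true ((allListK_iff w _).mp h5.1 s hs)
  -- the action through `Φ`
  have hact : ∀ (γ : G) (q : G ⧸ H), Φ (γ • q) = ρ γ (Φ q) := by
    intro γ q
    induction q using QuotientGroup.induction_on with
    | H δ =>
      have : γ • (δ : G ⧸ H) = ((γ * δ : G) : G ⧸ H) := rfl
      rw [this, hΦ, hΦ, map_mul, Equiv.Perm.mul_apply]
  have himg : Φ '' (MulAction.orbit H (Φ.symm b)) = {i | ∃ h ∈ H, ρ h b = i} := by
    ext i
    constructor
    · rintro ⟨q, ⟨⟨h, hh⟩, rfl⟩, rfl⟩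
      refine ⟨h, hh, ?_⟩
      show ρ h b = Φ (h • Φ.symm b)
      rw [hact, Equiv.apply_symm_apply]
    · rintro ⟨h, hh, rfl⟩
      refine ⟨h • Φ.symm b, ⟨⟨h, hh⟩, rfl⟩, ?_⟩
      rw [hact, Equiv.apply_symm_apply]
  rw [himg]
  set S : Set (Fin N) := {i : Fin N | lo ≤ i.val ∧ i.val < hi} with hS
  have hmaps : ∀ h ∈ H, Set.MapsTo (ρ h) S S := by
    intro h hh
    rw [hH] at hh
    refine Subgroup.closure_induction (p := fun h _ => Set.MapsTo (ρ h) S S) ?_ ?_ ?_ ?_ hh
    · rintro y ⟨w, hw, rfl⟩ i hiS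
      have h1 := (allBelowK_iff hi _).mp ((allListK_iff sw _).mp hoi w hw) i.val hiS.2
      rw [forceN_eq, Bool.or_eq_true] at h1
      rcases h1 with h1 | h1
      · have : i.val < lo := Nat.le_of_ble_eq_true h1
        exact absurd hiS.1 (by omega)
      · rw [Bool.and_eq_true] at h1
        show lo ≤ ((ρ (wprod v w) i : Fin N) : ℕ) ∧ ((ρ (wprod v w) i : Fin N) : ℕ) < hi
        rw [rho_word v ρ hρ w (hletters w hw) i]
        exact ⟨Nat.le_of_ble_eq_true h1.1, Nat.le_of_ble_eq_true h1.2⟩
    · rw [map_one]; exact fun i hiS => hiS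
    · intro x y _ _ hx hy
      rw [map_mul]
      exact fun i hiS => hx (hy hiS)
    · intro x _ hx
      rw [map_inv]
      exact Equiv.Perm.perm_symm_mapsTo_of_mapsTo (ρ x) hx
  have hbS : b ∈ S := ⟨le_refl lo, hlo⟩
  ext i
  constructor
  · rintro ⟨h, hh, rfl⟩
    exact hmaps h hh hbS
  · intro hiS0
    have main : ∀ n : ℕ, ∀ i : Fin N, i.val = n → i ∈ S → ∃ h ∈ H, ρ h b = i := by
      intro n
      induction n using Nat.strong_induction_on with
      | _ n ih =>
        intro i hin hiS
        have h1 := (allBelowK_iff hi _).mp hoc i.val hiS.2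
        rw [Bool.or_eq_true] at h1
        rcases h1 with h1 | h1
        · have h2 : i.val ≤ lo := Nat.le_of_ble_eq_true h1
          refine ⟨1, H.one_mem, ?_⟩
          rw [map_one]
          apply Fin.ext
          show lo = i.val
          exact le_antisymm hiS.1 h2
        · obtain ⟨w, hw, h2⟩ := (anyListK_iff sw _).mp h1
          have h3 : applyW TT w i.val < i.val := Nat.le_of_ble_eq_true h2
          have hwH : wprod v w ∈ H := by
            rw [hH]; exact Subgroup.subset_closure ⟨w, hw, rfl⟩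
          have h4 : ((ρ (wprod v w) i : Fin N) : ℕ) < n := by
            rw [rho_word v ρ hρ w (hletters w hw) i, ← hin]; exact h3
          obtain ⟨h, hh, hγ⟩ := ih _ h4 (ρ (wprod v w) i) rfl (hmaps _ hwH hiS)
          refine ⟨(wprod v w)⁻¹ * h, H.mul_mem (H.inv_mem hwH) hh, ?_⟩
          rw [map_mul, Equiv.Perm.mul_apply, hγ, map_inv]
          exact Equiv.Perm.inv_eq_iff_eq.mpr rfl
    exact main i.val i rfl hiS0

theorem ncard_interval {lo hi : ℕ} (hhi : hi ≤ N) :
    ({i : Fin N | lo ≤ i.val ∧ i.val < hi} : Set (Fin N)).ncard = hi - lo := by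
  have h1 : (Fin.val '' ({i : Fin N | lo ≤ i.val ∧ i.val < hi} : Set (Fin N))) = Set.Ico lo hi := by
    ext n
    constructor
    · rintro ⟨i, hi', rfl⟩; exact hi'
    · intro hn
      exact ⟨⟨n, lt_of_lt_of_le hn.2 hhi⟩, hn, rfl⟩
  rw [← Set.ncard_image_of_injective _ Fin.val_injective, h1, ← Finset.coe_Ico,
    Set.ncard_coe_finset, Nat.card_Ico]

end Main

end Cfsg.Agent.Lib.Helper12.TC
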