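import Cfsg.Agent.Lib.Helper12.TC.Cox

/-!
The index of a subgroup of a Coxeter style presented group from a coset enumeration certificate
(helper12).
-/

set_option autoImplicit false

namespace Cfsg.Agent.Lib.Helper12.TC

open Cfsg.Spor

/-! ### more kernel friendly helpers -/

/-- entry `n` of a list of words -/
def nthLK (l : List (List ℕ)) (n : ℕ) : List ℕ :=
  @List.rec (List ℕ) (fun _ => ℕ → List ℕ) (fun _ => [])
    (fun a _ ih n => @Nat.rec (fun _ => List ℕ) a (fun n' _ => ih n') n) l n

theorem nthLK_mem (l : List (List ℕ)) (n : ℕ) : nthLK l n ∈ l ∨ nthLK l n = [] := by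
  induction l generalizing n with
  | nil => exact Or.inr rfl
  | cons a l ih =>
    cases n with
    | zero => exact Or.inl List.mem_cons_self
    | succ n =>
      have e : nthLK (a :: l) (n+1) = nthLK l n := rfl
      rw [e]
      rcases ih n with h | h
      · exact Or.inl (List.mem_cons_of_mem _ h)
      · exact Or.inr h

/-- entry `n` of a list of pairs -/
def nthPK (l : List (ℕ × ℕ)) (n : ℕ) : ℕ × ℕ :=
  @List.rec (ℕ × ℕ) (fun _ => ℕ → ℕ × ℕ) (fun _ => (0, 0))
    (fun a _ ih n => @Nat.rec (fun _ => ℕ × ℕ) a (fun n' _ => ih n') n) l n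

/-- rotation of a word -/
def rotK (l : List ℕ) (k : ℕ) : List ℕ := l.drop k ++ l.take k

/-- all letters of all words are below `g` -/
def lettersK (g : ℕ) (L : List (List ℕ)) : Bool :=
  allListK L (fun w => allListK w (fun s => Nat.blt s g))

theorem lettersK_lt {g : ℕ} {L : List (List ℕ)} (h : lettersK g L = true) {w : List ℕ} (hw : w ∈ L)
    {s : ℕ} (hs : s ∈ w) : s < g :=
  Nat.le_of_ble_eq_true ((allListK_iff w _).mp ((allListK_iff L _).mp h w hw) s hs)

/-- the squares -/
def sqWords (g : ℕ) : List (List ℕ) := (List.range g).map (fun i => [i, i])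

/-- the chunks cover the facts from `D` up to `K` -/
def coverK (D K : ℕ) (chunks : List (ℕ × List ℕ)) : Bool :=
  @List.rec (ℕ × List ℕ) (fun _ => ℕ → Bool) (fun k => Nat.beq k K)
    (fun c _ ih k => Nat.beq c.1 k && ih (Nat.add k c.2.length)) chunks D

/-- the packed words `rid < R0` are rotations of base words, the packed words `R0 ≤ rid < R` are the
subgroup words -/
def relCheckK (RW R0 R : ℕ) (baseL : List (List ℕ)) (rotW : List (ℕ × ℕ)) (sw : List (List ℕ)) :
    Bool :=
  allBelowK R0 (fun rid =>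
      Nat.beq (relW RW rid) (pack (rotK (nthLK baseL (nthPK rotW rid).1) (nthPK rotW rid).2))) &&
    (allBelowK (R - R0) (fun j => Nat.beq (relW RW (R0 + j)) (pack (nthLK sw j))) &&
      Nat.blt RW (Nat.pow 2 (Nat.mul 512 R)))

section Generic

variable {G : Type*} [Group G] (H : Subgroup G) (v : ℕ → G) (F : ℕ → ℕ)
variable (hv15 : v 15 = 1) (hinv : ∀ s, v s * v s = 1)

include hv15 hinv in
theorem chunks_valid {RW R0 : ℕ}
    (hrel1 : ∀ rid < R0, wprod v (unpack (relW RW rid)) = 1)
    (hrel2 : ∀ rid, wprod v (unpack (relW RW rid)) ∈ H)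
    (chunks : List (ℕ × List ℕ)) (K : ℕ) :
    ∀ D : ℕ, (∀ c ∈ chunks, chunkK F RW R0 c.2 c.1 = true) → coverK D K chunks = true →
      ∀ k, D ≤ k → k < K → (∀ j < k, Valid H v F j) → Valid H v F k := by
  induction chunks with
  | nil =>
    intro D _ hc k h1 h2
    have : D = K := Nat.eq_of_beq_eq_true hc
    omega
  | cons c chunks ih =>
    intro D hall hc k h1 h2 hv
    have e : coverK D K (c :: chunks) =
        (Nat.beq c.1 D && coverK (Nat.add D c.2.length) K chunks) := rfl
    rw [e, Bool.and_eq_true] at hc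
    have e1 : c.1 = D := Nat.eq_of_beq_eq_true hc.1
    by_cases hk : k < D + c.2.length
    · have h3 := hall c List.mem_cons_self
      rw [e1] at h3
      exact chunkK_sound H v F hv15 hinv hrel1 hrel2 c.2 D h3 k h1 hk hv
    · exact ih (Nat.add D c.2.length) (fun c' hc' => hall c' (List.mem_cons_of_mem _ hc')) hc.2 k
        (Nat.le_of_not_lt hk) h2 hv

theorem wprod_rotK (l : List ℕ) (k : ℕ) (h : wprod v l = 1) : wprod v (rotK l k) = 1 := by
  have h1 : wprod v (l.take k) * wprod v (l.drop k) = 1 := by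
    rw [← wprod_append, List.take_append_drop]; exact h
  show wprod v (l.drop k ++ l.take k) = 1
  rw [wprod_append]
  exact mul_eq_one_comm.mp h1

theorem relW_eq_zero {RW R rid : ℕ} (hR : RW < 2 ^ (512 * R)) (h : R ≤ rid) : relW RW rid = 0 := by
  have h1 : Nat.shiftRight RW (Nat.mul 512 rid) = 0 := by
    show RW >>> (512 * rid) = 0
    rw [Nat.shiftRight_eq_div_pow]
    apply Nat.div_eq_of_lt
    exact lt_of_lt_of_le hR (Nat.pow_le_pow_right (by norm_num) (by omega))
  unfold relW
  rw [h1]
  generalize Nat.pow 2 512 = m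
  exact Nat.zero_mod m

/-- the meaning of the check of the packed words -/
theorem relCheck_sound {RW R0 R : ℕ} {baseL : List (List ℕ)} {rotW : List (ℕ × ℕ)}
    {sw : List (List ℕ)} (hc : relCheckK RW R0 R baseL rotW sw = true)
    (hl1 : lettersK 15 baseL = true) (hl2 : lettersK 15 sw = true)
    (hbase : ∀ b ∈ baseL, wprod v b = 1) (hsw : ∀ w ∈ sw, wprod v w ∈ H) :
    (∀ rid < R0, wprod v (unpack (relW RW rid)) = 1) ∧
      ∀ rid, wprod v (unpack (relW RW rid)) ∈ H := by
  unfold relCheckK at hc
  simp only [Bool.and_eq_true] at hc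
  obtain ⟨hc1, hc2, hc3⟩ := hc
  have hR : RW < 2 ^ (512 * R) := Nat.le_of_ble_eq_true hc3
  have p1 : ∀ rid < R0, wprod v (unpack (relW RW rid)) = 1 := by
    intro rid hrid
    have h1 := Nat.eq_of_beq_eq_true ((allBelowK_iff R0 _).mp hc1 rid hrid)
    rw [h1]
    set b := nthLK baseL (nthPK rotW rid).1 with hb
    have hb1 : wprod v b = 1 := by
      rcases nthLK_mem baseL (nthPK rotW rid).1 with h | h
      · exact hbase _ h
      · rw [hb, h]; rfl
    have hb2 : ∀ s ∈ b, s < 15 := by
      rcases nthLK_mem baseL (nthPK rotW rid).1 with h | h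
      · exact fun s hs => lettersK_lt hl1 h hs
      · rw [hb, h]; exact fun s hs => absurd hs List.not_mem_nil
    have hb3 : ∀ s ∈ rotK b (nthPK rotW rid).2, s < 15 := by
      intro s hs
      rcases List.mem_append.mp hs with h | h
      · exact hb2 s (List.mem_of_mem_drop h)
      · exact hb2 s (List.mem_of_mem_take h)
    rw [unpack_pack _ hb3]
    exact wprod_rotK v b _ hb1
  refine ⟨p1, ?_⟩
  intro rid
  by_cases h1 : rid < R0
  · rw [p1 rid h1]; exact H.one_mem
  · by_cases h2 : rid < R
    · have h3 := Nat.eq_of_beq_eq_true ((allBelowK_iff (R - R0) _).mp hc2 (rid - R0) (by omega))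
      have h4 : R0 + (rid - R0) = rid := by omega
      rw [h4] at h3
      rw [h3]
      rcases nthLK_mem sw (rid - R0) with h | h
      · rw [unpack_pack _ (fun s hs => lettersK_lt hl2 h hs)]
        exact hsw _ h
      · rw [h]
        show wprod v (unpack 0) ∈ H
        rw [unpack_zero]; exact H.one_mem
    · rw [relW_eq_zero hR (Nat.le_of_not_lt h2), unpack_zero]; exact H.one_mem

/-- words of permutations act as the table says -/
theorem perm_word {TT : List ℕ} {g N : ℕ} (ψ : ℕ → Equiv.Perm (Fin N))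
    (hψ : ∀ x < g, ∀ i : Fin N, ((ψ x i : Fin N) : ℕ) = Tget TT x i)
    (l : List ℕ) (hl : ∀ s ∈ l, s < g) (i : Fin N) :
    ((wprod ψ l i : Fin N) : ℕ) = applyW TT l i := by
  induction l with
  | nil => rfl
  | cons s l ih =>
    rw [wprod_cons, Equiv.Perm.mul_apply, hψ s (hl s List.mem_cons_self), applyW_cons,
      ih (fun t ht => hl t (List.mem_cons_of_mem _ ht))]

end Generic

/-- the permutation of the points given by column `x` of the table -/
noncomputable def pT {TT : List ℕ} {g N : ℕ} (hperm : permK TT g N = true) (x : ℕ) :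
    Equiv.Perm (Fin N) :=
  if hx : x < g then
    Function.Involutive.toPerm (fun i : Fin N => ⟨Tget TT x i.val, permK_lt hperm hx i.isLt⟩)
      (fun i => Fin.ext (permK_invol hperm hx i.isLt))
  else 1

theorem pT_apply {TT : List ℕ} {g N : ℕ} (hperm : permK TT g N = true) {x : ℕ} (hx : x < g)
    (i : Fin N) : ((pT hperm x i : Fin N) : ℕ) = Tget TT x i.val := by
  rw [pT, dif_pos hx]; rfl

theorem pT_sq {TT : List ℕ} {g N : ℕ} (hperm : permK TT g N = true) (x : ℕ) :
    pT hperm x * pT hperm x = 1 := by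
  by_cases hx : x < g
  · apply Equiv.ext
    intro i
    apply Fin.ext
    rw [Equiv.Perm.mul_apply, pT_apply hperm hx, pT_apply hperm hx]
    exact permK_invol hperm hx i.isLt
  · rw [pT, dif_neg hx, mul_one]

end Cfsg.Agent.Lib.Helper12.TC
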